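import Cfsg.Agent.Helper27.M24B.Prune

/-! Pruned census for the centralisers of class representatives of `M24`, part 0 for representative 1 (generated). -/

set_option autoImplicit false
set_option maxRecDepth 1000000
set_option Elab.async false

namespace Cfsg.Agent.Helper27.M24B

theorem cen_two_a_0 : PSa 984490757400711034068282643818023937 984490757400711034068282643818023937 984490757400711034068282643818023937 984818244535754528103549039458486304 = 1344 := by decide +kernel

theorem cen_two_a_1 : PSa 984490757400711034068282643818023937 984490757400711034068282643818023937 984490757400711034068282643818023937 956302485175575353788796878166559809 = 1344 := by decide +kernel

theorem cen_two_a_2 : PSa 984490757400711034068282643818023937 984490757400711034068282643818023937 984490757400711034068282643818023937 956709441910203461498593497208492130 = 1344 := by decide +kernel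

theorem cen_two_a_3 : PSa 984490757400711034068282643818023937 984490757400711034068282643818023937 984490757400711034068282643818023937 958020233522794296771657265635857539 = 1344 := by decide +kernel

theorem cen_two_a_4 : PSa 984490757400711034068282643818023937 984490757400711034068282643818023937 984490757400711034068282643818023937 956085195133363055212480936219446308 = 1344 := by decide +kernel

theorem cen_two_a_5 : PSa 984490757400711034068282643818023937 984490757400711034068282643818023937 984490757400711034068282643818023937 957425142709759139735883430963155013 = 0 := by decide +kernel

theorem cen_two_a_6 : PSa 984490757400711034068282643818023937 984490757400711034068282643818023937 984490757400711034068282643818023937 978766510459594708251448298497017958 = 0 := by decide +kernel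

theorem cen_two_a_7 : PSa 984490757400711034068282643818023937 984490757400711034068282643818023937 984490757400711034068282643818023937 980106457146221389564379418514361479 = 1344 := by decide +kernel

theorem cen_two_a_8 : PSa 984490757400711034068282643818023937 984490757400711034068282643818023937 984490757400711034068282643818023937 748631715968774217324450783055548840 = 1344 := by decide +kernel

theorem cen_two_a_9 : PSa 984490757400711034068282643818023937 984490757400711034068282643818023937 984490757400711034068282643818023937 29128872078062367489448666720552297 = 0 := by decide +kernel

theorem cen_two_a_10 : PSa 984490757400711034068282643818023937 984490757400711034068282643818023937 984490757400711034068282643818023937 963716496262025890856626474012726794 = 1344 := by decide +kernel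

theorem cen_two_a_11 : PSa 984490757400711034068282643818023937 984490757400711034068282643818023937 984490757400711034068282643818023937 29492376736006929088146330296305131 = 0 := by decide +kernel


end Cfsg.Agent.Helper27.M24B
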