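import Cfsg.Agent.Helper27.M24B.Census1a

/-! Pruned census for the centralisers of class representatives of `M24`, part 1 for representative 1 (generated). -/

set_option autoImplicit false
set_option maxRecDepth 1000000
set_option Elab.async false

namespace Cfsg.Agent.Helper27.M24B

theorem cen_two_a_12 : PSa 984490757400711034068282643818023937 984490757400711034068282643818023937 984490757400711034068282643818023937 42474427424899072460790245135567372 = 1344 := by decide +kernel

theorem cen_two_a_13 : PSa 984490757400711034068282643818023937 984490757400711034068282643818023937 984490757400711034068282643818023937 85312185050366474671588816010464813 = 1344 := by decide +kernel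

theorem cen_two_a_14 : PSa 984490757400711034068282643818023937 984490757400711034068282643818023937 984490757400711034068282643818023937 30596650610690344108468126695669358 = 0 := by decide +kernel

theorem cen_two_a_15 : PSa 984490757400711034068282643818023937 984490757400711034068282643818023937 984490757400711034068282643818023937 15200453133970992512463437727114799 = 1344 := by decide +kernel

theorem cen_two_a_16 : PSa 984490757400711034068282643818023937 984490757400711034068282643818023937 984490757400711034068282643818023937 57144517086277493021102530699602512 = 1344 := by decide +kernel

theorem cen_two_a_17 : PSa 984490757400711034068282643818023937 984490757400711034068282643818023937 984490757400711034068282643818023937 30038786321973151969200033103462097 = 0 := by decide +kernel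

theorem cen_two_a_18 : PSa 984490757400711034068282643818023937 984490757400711034068282643818023937 984490757400711034068282643818023937 955976305995358692400003018625453266 = 1344 := by decide +kernel

theorem cen_two_a_19 : PSa 984490757400711034068282643818023937 984490757400711034068282643818023937 984490757400711034068282643818023937 957316225099133873385554888546685171 = 1344 := by decide +kernel

theorem cen_two_a_20 : PSa 984490757400711034068282643818023937 984490757400711034068282643818023937 984490757400711034068282643818023937 958656172675529957934853081123656980 = 1344 := by decide +kernel

theorem cen_two_a_21 : PSa 984490757400711034068282643818023937 984490757400711034068282643818023937 984490757400711034068282643818023937 943714182190459353178517000962980181 = 1344 := by decide +kernel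

theorem cen_two_a_22 : PSa 984490757400711034068282643818023937 984490757400711034068282643818023937 984490757400711034068282643818023937 29911808450092068199315215539027318 = 0 := by decide +kernel

theorem cen_two_a_23 : PSa 984490757400711034068282643818023937 984490757400711034068282643818023937 984490757400711034068282643818023937 1795248432537898728475572672376535 = 0 := by decide +kernel

theorem cen_two_a : PS0 984490757400711034068282643818023937 984490757400711034068282643818023937 984490757400711034068282643818023937 = 21504 := by
  rw [PS0_eq_sum]
  simp only [LA, List.map_cons, List.map_nil, List.sum_cons, List.sum_nil,
    cen_two_a_0, cen_two_a_1, cen_two_a_2, cen_two_a_3, cen_two_a_4, cen_two_a_5, cen_two_a_6, cen_two_a_7, cen_two_a_8, cen_two_a_9, cen_two_a_10, cen_two_a_11, cen_two_a_12, cen_two_a_13, cen_two_a_14, cen_two_a_15, cen_two_a_16, cen_two_a_17, cen_two_a_18, cen_two_a_19, cen_two_a_20, cen_two_a_21, cen_two_a_22, cen_two_a_23]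
  norm_num

end Cfsg.Agent.Helper27.M24B
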