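import Cfsg.Agent.Helper27.M24B.Prune

/-! Pruned census for the centralisers of class representatives of `M24`, part 0 for representative 2 (generated). -/

set_option autoImplicit false
set_option maxRecDepth 1000000
set_option Elab.async false

namespace Cfsg.Agent.Helper27.M24B

theorem cen_two_b_0 : PSa 509592002419337094491636749927779329 509592002419337094491636749927779329 509592002419337094491636749927779329 984818244535754528103549039458486304 = 320 := by decide +kernel

theorem cen_two_b_1 : PSa 509592002419337094491636749927779329 509592002419337094491636749927779329 509592002419337094491636749927779329 956302485175575353788796878166559809 = 320 := by decide +kernel

theorem cen_two_b_2 : PSa 509592002419337094491636749927779329 509592002419337094491636749927779329 509592002419337094491636749927779329 956709441910203461498593497208492130 = 320 := by decide +kernel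

theorem cen_two_b_3 : PSa 509592002419337094491636749927779329 509592002419337094491636749927779329 509592002419337094491636749927779329 958020233522794296771657265635857539 = 320 := by decide +kernel

theorem cen_two_b_4 : PSa 509592002419337094491636749927779329 509592002419337094491636749927779329 509592002419337094491636749927779329 956085195133363055212480936219446308 = 320 := by decide +kernel

theorem cen_two_b_5 : PSa 509592002419337094491636749927779329 509592002419337094491636749927779329 509592002419337094491636749927779329 957425142709759139735883430963155013 = 320 := by decide +kernel

theorem cen_two_b_6 : PSa 509592002419337094491636749927779329 509592002419337094491636749927779329 509592002419337094491636749927779329 978766510459594708251448298497017958 = 320 := by decide +kernel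

theorem cen_two_b_7 : PSa 509592002419337094491636749927779329 509592002419337094491636749927779329 509592002419337094491636749927779329 980106457146221389564379418514361479 = 320 := by decide +kernel

theorem cen_two_b_8 : PSa 509592002419337094491636749927779329 509592002419337094491636749927779329 509592002419337094491636749927779329 748631715968774217324450783055548840 = 320 := by decide +kernel

theorem cen_two_b_9 : PSa 509592002419337094491636749927779329 509592002419337094491636749927779329 509592002419337094491636749927779329 29128872078062367489448666720552297 = 320 := by decide +kernel

theorem cen_two_b_10 : PSa 509592002419337094491636749927779329 509592002419337094491636749927779329 509592002419337094491636749927779329 963716496262025890856626474012726794 = 320 := by decide +kernel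

theorem cen_two_b_11 : PSa 509592002419337094491636749927779329 509592002419337094491636749927779329 509592002419337094491636749927779329 29492376736006929088146330296305131 = 320 := by decide +kernel


end Cfsg.Agent.Helper27.M24B
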