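import Cfsg.Agent.Helper27.M24B.Census2a

/-! Pruned census for the centralisers of class representatives of `M24`, part 1 for representative 2 (generated). -/

set_option autoImplicit false
set_option maxRecDepth 1000000
set_option Elab.async false

namespace Cfsg.Agent.Helper27.M24B

theorem cen_two_b_12 : PSa 509592002419337094491636749927779329 509592002419337094491636749927779329 509592002419337094491636749927779329 42474427424899072460790245135567372 = 320 := by decide +kernel

theorem cen_two_b_13 : PSa 509592002419337094491636749927779329 509592002419337094491636749927779329 509592002419337094491636749927779329 85312185050366474671588816010464813 = 320 := by decide +kernel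

theorem cen_two_b_14 : PSa 509592002419337094491636749927779329 509592002419337094491636749927779329 509592002419337094491636749927779329 30596650610690344108468126695669358 = 320 := by decide +kernel

theorem cen_two_b_15 : PSa 509592002419337094491636749927779329 509592002419337094491636749927779329 509592002419337094491636749927779329 15200453133970992512463437727114799 = 320 := by decide +kernel

theorem cen_two_b_16 : PSa 509592002419337094491636749927779329 509592002419337094491636749927779329 509592002419337094491636749927779329 57144517086277493021102530699602512 = 320 := by decide +kernel

theorem cen_two_b_17 : PSa 509592002419337094491636749927779329 509592002419337094491636749927779329 509592002419337094491636749927779329 30038786321973151969200033103462097 = 320 := by decide +kernel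

theorem cen_two_b_18 : PSa 509592002419337094491636749927779329 509592002419337094491636749927779329 509592002419337094491636749927779329 955976305995358692400003018625453266 = 320 := by decide +kernel

theorem cen_two_b_19 : PSa 509592002419337094491636749927779329 509592002419337094491636749927779329 509592002419337094491636749927779329 957316225099133873385554888546685171 = 320 := by decide +kernel

theorem cen_two_b_20 : PSa 509592002419337094491636749927779329 509592002419337094491636749927779329 509592002419337094491636749927779329 958656172675529957934853081123656980 = 320 := by decide +kernel

theorem cen_two_b_21 : PSa 509592002419337094491636749927779329 509592002419337094491636749927779329 509592002419337094491636749927779329 943714182190459353178517000962980181 = 320 := by decide +kernel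

theorem cen_two_b_22 : PSa 509592002419337094491636749927779329 509592002419337094491636749927779329 509592002419337094491636749927779329 29911808450092068199315215539027318 = 320 := by decide +kernel

theorem cen_two_b_23 : PSa 509592002419337094491636749927779329 509592002419337094491636749927779329 509592002419337094491636749927779329 1795248432537898728475572672376535 = 320 := by decide +kernel

theorem cen_two_b : PS0 509592002419337094491636749927779329 509592002419337094491636749927779329 509592002419337094491636749927779329 = 7680 := by
  rw [PS0_eq_sum]
  simp only [LA, List.map_cons, List.map_nil, List.sum_cons, List.sum_nil,
    cen_two_b_0, cen_two_b_1, cen_two_b_2, cen_two_b_3, cen_two_b_4, cen_two_b_5, cen_two_b_6, cen_two_b_7, cen_two_b_8, cen_two_b_9, cen_two_b_10, cen_two_b_11, cen_two_b_12, cen_two_b_13, cen_two_b_14, cen_two_b_15, cen_two_b_16, cen_two_b_17, cen_two_b_18, cen_two_b_19, cen_two_b_20, cen_two_b_21, cen_two_b_22, cen_two_b_23]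
  norm_num

end Cfsg.Agent.Helper27.M24B
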