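import Cfsg.Agent.Helper27.M24B.Prune

/-! Pruned census for the centralisers of class representatives of `M24`, the small centralisers (generated). -/

set_option autoImplicit false
set_option maxRecDepth 1000000
set_option Elab.async false

namespace Cfsg.Agent.Helper27.M24B

theorem cen_k3 : PS0 979017549504734623149439527862534209 979017549504734623149439527862534209 974352010787510121420557797545083906 = 1080 := by decide +kernel

theorem cen_k4 : PS0 443191515793285835463589994272260161 443191515793285835463589994272260161 765468569697373006951982964977861634 = 504 := by decide +kernel

theorem cen_k5 : PS0 635592976057612735777238094101613633 635592976057612735777238094101613633 637908982369809871185314658956411907 = 384 := by decide +kernel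

theorem cen_k6 : PS0 303004643952765262994427047677267009 303004643952765262994427047677267009 427619451959570457956458432377717763 = 128 := by decide +kernel

theorem cen_k7 : PS0 797307320635957284988863300911500353 797307320635957284988863300911500353 510772855970988053329703614610998275 = 96 := by decide +kernel

theorem cen_k8 : PS0 962705455202652488669254449853762625 962705455202652488669254449853762625 980681463484433654587673288450835460 = 60 := by decide +kernel

theorem cen_k9 : PS0 966468801597256276700688793717574721 966468801597256276700688793717574721 976493423506919008508865668187227143 = 24 := by decide +kernel

theorem cen_k10 : PS0 423558135689753353411436962039073857 423558135689753353411436962039073857 384855561251388358664471826350015493 = 24 := by decide +kernel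

theorem cen_k11 : PS0 344628055745714154984632857831541825 344628055745714154984632857831541825 850575307188511233175569963485824007 = 42 := by decide +kernel

theorem cen_k13 : PS0 693184910677510198799085212615707713 693184910677510198799085212615707713 652016344405110148046472835247440917 = 16 := by decide +kernel

theorem cen_k14 : PS0 604354095729424183169778128566488129 604354095729424183169778128566488129 562645676193011655945314985061712912 = 20 := by decide +kernel

theorem cen_k15 : PS0 977871584429521527159478125683936321 977871584429521527159478125683936321 966552503809944128205175088976299021 = 11 := by decide +kernel

theorem cen_k16 : PS0 632951282503715812965806485923826753 632951282503715812965806485923826753 605449779846759962928974994628215814 = 12 := by decide +kernel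

theorem cen_k17 : PS0 582369433065415099005278072429743169 582369433065415099005278072429743169 683017165526709814985637739852006422 = 12 := by decide +kernel

theorem cen_k18 : PS0 263091432247933994759735005259369537 263091432247933994759735005259369537 234526035306603405224055459778987017 = 14 := by decide +kernel

theorem cen_k20 : PS0 763860014468160752105954849263324225 763860014468160752105954849263324225 723768466855595441516524632804492299 = 15 := by decide +kernel

theorem cen_k22 : PS0 802911608835807113482247601074080833 802911608835807113482247601074080833 630151316503264220810933690560480267 = 21 := by decide +kernel

theorem cen_k24 : PS0 777071106882502488264671919099481153 777071106882502488264671919099481153 236519981581295117253054053101929491 = 23 := by decide +kernel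

theorem tw_k12 : PS0 344628055745714154984632857831541825 850575307188511233175569963485824007 850575307188511233175569963485824007 = 0 := by decide +kernel

theorem tw_k19 : PS0 263091432247933994759735005259369537 234526035306603405224055459778987017 234526035306603405224055459778987017 = 0 := by decide +kernel

theorem tw_k21 : PS0 763860014468160752105954849263324225 723768466855595441516524632804492299 723768466855595441516524632804492299 = 0 := by decide +kernel

theorem tw_k23 : PS0 802911608835807113482247601074080833 630151316503264220810933690560480267 630151316503264220810933690560480267 = 0 := by decide +kernel

theorem tw_k25 : PS0 777071106882502488264671919099481153 236519981581295117253054053101929491 236519981581295117253054053101929491 = 0 := by decide +kernel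


end Cfsg.Agent.Helper27.M24B
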