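import Cfsg.Agent.Helper27.M24B.Count
import Cfsg.Agent.Helper27.M24B.Census1b
import Cfsg.Agent.Helper27.M24B.Census2b
import Cfsg.Agent.Helper27.M24B.Census3

/-!
The class representatives of `M24`: their orders, bounds for their centralisers, and the pairs of representatives
which are inverse to each other and not conjugate (generated).
-/

set_option autoImplicit false
set_option maxRecDepth 100000

namespace Cfsg.Agent.Helper27.M24B

open Cfsg Cfsg.Agent.Helper7 Cfsg.Agent.Helper27.FusCode Cfsg.Agent.Helper27.FusTab Cfsg.Agent.Helper27.M22B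
  Cfsg.Agent.Helper27.CodeEnum

theorem norm_powC (c : ℕ) (hc : encL (dec c) = c) : ∀ n, encL (dec (powC c n)) = powC c n
  | 0 => norm_idC
  | n + 1 => norm_compU _ _

theorem pow_eq_one_iff_powC {c : ℕ} {g : Equiv.Perm GolayPt} (h : IsCode c g) (hc : encL (dec c) = c)
    (n : ℕ) : g ^ n = 1 ↔ powC c n = idC :=
  (code_eq_iff (isCode_powC h n) isCode_one (norm_powC c hc n) norm_idC).symm

/-- the order of a coded permutation from the powers of its code -/
theorem orderOf_of_powC {c : ℕ} {g : Equiv.Perm GolayPt} (h : IsCode c g) (hc : encL (dec c) = c)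
    (n : ℕ) (hn : 0 < n) (h1 : powC c n = idC) (h2 : ∀ d ∈ n.properDivisors, powC c d ≠ idC) :
    orderOf g = n := by
  have hg : g ^ n = 1 := (pow_eq_one_iff_powC h hc n).mpr h1
  have hdvd : orderOf g ∣ n := orderOf_dvd_of_pow_eq_one hg
  by_contra hne
  have hmem : orderOf g ∈ n.properDivisors := by
    rw [Nat.mem_properDivisors]
    exact ⟨hdvd, lt_of_le_of_ne (Nat.le_of_dvd hn hdvd) hne⟩
  exact h2 _ hmem ((pow_eq_one_iff_powC h hc _).mp (pow_orderOf_eq_one g))

theorem rp_zero : rp 0 = 1 := by
  apply Subtype.ext
  have h := rp_code 0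
  have h2 : rc 0 = idc := by decide +kernel
  rw [h2] at h
  exact isCode_inj h isCode_idc

/-- the orders of the class representatives -/
def ordK : Fin 26 → ℕ := ![1, 2, 2, 3, 3, 4, 4, 4, 5, 6, 6, 7, 7, 8, 10, 11, 12, 12, 14, 14, 15, 15, 21, 21, 23, 23]

theorem ordK_chk : ∀ k : Fin 26, 0 < ordK k ∧ powC (rc k) (ordK k) = idC ∧
    ∀ d, d < ordK k → 0 < d → d ∣ ordK k → powC (rc k) d ≠ idC := by decide +kernel

theorem orderOf_rp (k : Fin 26) : orderOf (rp k) = ordK k := by
  rw [← Subgroup.orderOf_coe]
  obtain ⟨h0, h1, h2⟩ := ordK_chk k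
  apply orderOf_of_powC (rp_code k) (rc_norm k) (ordK k) h0 h1
  intro d hd
  rw [Nat.mem_properDivisors] at hd
  exact h2 d hd.2 (Nat.pos_of_dvd_of_pos hd.1 h0) hd.1

/-- the orders of the centralisers of the class representatives -/
def cenK : Fin 26 → ℕ := ![244823040, 21504, 7680, 1080, 504, 384, 128, 96, 60, 24, 24, 42, 42, 16, 20, 11, 12, 12, 14, 14, 15, 15, 21, 21, 23, 23]

/-- the representative of which the given one is the inverse, for the five representatives defined as inverses -/
def pre : Fin 26 → Fin 26 := ![0, 1, 2, 3, 4, 5, 6, 7, 8, 9, 10, 11, 11, 13, 14, 15, 16, 17, 18, 18, 20, 20, 22, 22, 24, 24]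

theorem pre_chk : ∀ k : Fin 26, pre k ≠ k → compU (rc (pre k)) (rc k) = idc := by decide +kernel

theorem rp_eq_inv (k : Fin 26) (hk : pre k ≠ k) : rp k = (rp (pre k))⁻¹ := by
  have h := (compU_eq_idc_iff (rp_code (pre k)) (rp_code k)).mp (pre_chk k hk)
  have h2 : rp (pre k) * rp k = 1 := Subtype.ext h
  exact (inv_eq_of_mul_eq_one_right h2).symm

theorem card_comm_le_of_census (k : Fin 26) (R RI c : ℕ) (hR : rc k = R) (hc : PS0 R R RI = c) :
    Nat.card {g : M24 // g * rp k = rp k * g} ≤ c := by
  have h := rp_code k
  rw [hR] at h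
  rw [← hc]
  exact card_semi_le (rp k) (rp k) h h RI

theorem card_comm_inv {Γ : Type*} [Group Γ] (r : Γ) :
    Nat.card {g : Γ // g * r⁻¹ = r⁻¹ * g} = Nat.card {g : Γ // g * r = r * g} := by
  apply Nat.card_congr
  apply Equiv.subtypeEquivRight
  intro g
  constructor
  · intro h
    have : r * (g * r⁻¹) * r = r * (r⁻¹ * g) * r := by rw [h]
    simpa [mul_assoc] using this.symm
  · intro h
    have : r⁻¹ * (g * r) * r⁻¹ = r⁻¹ * (r * g) * r⁻¹ := by rw [h]
    simpa [mul_assoc] using this.symm

theorem card_cen_le_0 : Nat.card {g : M24 // g * rp 0 = rp 0 * g} ≤ cenK 0 := by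
  rw [rp_zero]
  have e : Nat.card {g : M24 // g * 1 = 1 * g} = Nat.card M24 := by
    apply Nat.card_congr
    exact Equiv.subtypeUnivEquiv (fun g => by rw [mul_one, one_mul])
  rw [e, card_M24]
  decide

theorem card_cen_le_1 : Nat.card {g : M24 // g * rp 1 = rp 1 * g} ≤ cenK 1 :=
  card_comm_le_of_census 1 984490757400711034068282643818023937 984490757400711034068282643818023937 21504 (by decide +kernel) cen_two_a

theorem card_cen_le_2 : Nat.card {g : M24 // g * rp 2 = rp 2 * g} ≤ cenK 2 :=
  card_comm_le_of_census 2 509592002419337094491636749927779329 509592002419337094491636749927779329 7680 (by decide +kernel) cen_two_b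

theorem card_cen_le_3 : Nat.card {g : M24 // g * rp 3 = rp 3 * g} ≤ cenK 3 :=
  card_comm_le_of_census 3 979017549504734623149439527862534209 974352010787510121420557797545083906 1080 (by decide +kernel) cen_k3

theorem card_cen_le_4 : Nat.card {g : M24 // g * rp 4 = rp 4 * g} ≤ cenK 4 :=
  card_comm_le_of_census 4 443191515793285835463589994272260161 765468569697373006951982964977861634 504 (by decide +kernel) cen_k4

theorem card_cen_le_5 : Nat.card {g : M24 // g * rp 5 = rp 5 * g} ≤ cenK 5 :=
  card_comm_le_of_census 5 635592976057612735777238094101613633 637908982369809871185314658956411907 384 (by decide +kernel) cen_k5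

theorem card_cen_le_6 : Nat.card {g : M24 // g * rp 6 = rp 6 * g} ≤ cenK 6 :=
  card_comm_le_of_census 6 303004643952765262994427047677267009 427619451959570457956458432377717763 128 (by decide +kernel) cen_k6

theorem card_cen_le_7 : Nat.card {g : M24 // g * rp 7 = rp 7 * g} ≤ cenK 7 :=
  card_comm_le_of_census 7 797307320635957284988863300911500353 510772855970988053329703614610998275 96 (by decide +kernel) cen_k7

theorem card_cen_le_8 : Nat.card {g : M24 // g * rp 8 = rp 8 * g} ≤ cenK 8 :=
  card_comm_le_of_census 8 962705455202652488669254449853762625 980681463484433654587673288450835460 60 (by decide +kernel) cen_k8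

theorem card_cen_le_9 : Nat.card {g : M24 // g * rp 9 = rp 9 * g} ≤ cenK 9 :=
  card_comm_le_of_census 9 966468801597256276700688793717574721 976493423506919008508865668187227143 24 (by decide +kernel) cen_k9

theorem card_cen_le_10 : Nat.card {g : M24 // g * rp 10 = rp 10 * g} ≤ cenK 10 :=
  card_comm_le_of_census 10 423558135689753353411436962039073857 384855561251388358664471826350015493 24 (by decide +kernel) cen_k10

theorem card_cen_le_11 : Nat.card {g : M24 // g * rp 11 = rp 11 * g} ≤ cenK 11 :=
  card_comm_le_of_census 11 344628055745714154984632857831541825 850575307188511233175569963485824007 42 (by decide +kernel) cen_k11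

theorem card_cen_le_13 : Nat.card {g : M24 // g * rp 13 = rp 13 * g} ≤ cenK 13 :=
  card_comm_le_of_census 13 693184910677510198799085212615707713 652016344405110148046472835247440917 16 (by decide +kernel) cen_k13

theorem card_cen_le_14 : Nat.card {g : M24 // g * rp 14 = rp 14 * g} ≤ cenK 14 :=
  card_comm_le_of_census 14 604354095729424183169778128566488129 562645676193011655945314985061712912 20 (by decide +kernel) cen_k14

theorem card_cen_le_15 : Nat.card {g : M24 // g * rp 15 = rp 15 * g} ≤ cenK 15 :=
  card_comm_le_of_census 15 977871584429521527159478125683936321 966552503809944128205175088976299021 11 (by decide +kernel) cen_k15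

theorem card_cen_le_16 : Nat.card {g : M24 // g * rp 16 = rp 16 * g} ≤ cenK 16 :=
  card_comm_le_of_census 16 632951282503715812965806485923826753 605449779846759962928974994628215814 12 (by decide +kernel) cen_k16

theorem card_cen_le_17 : Nat.card {g : M24 // g * rp 17 = rp 17 * g} ≤ cenK 17 :=
  card_comm_le_of_census 17 582369433065415099005278072429743169 683017165526709814985637739852006422 12 (by decide +kernel) cen_k17

theorem card_cen_le_18 : Nat.card {g : M24 // g * rp 18 = rp 18 * g} ≤ cenK 18 :=
  card_comm_le_of_census 18 263091432247933994759735005259369537 234526035306603405224055459778987017 14 (by decide +kernel) cen_k18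

theorem card_cen_le_20 : Nat.card {g : M24 // g * rp 20 = rp 20 * g} ≤ cenK 20 :=
  card_comm_le_of_census 20 763860014468160752105954849263324225 723768466855595441516524632804492299 15 (by decide +kernel) cen_k20

theorem card_cen_le_22 : Nat.card {g : M24 // g * rp 22 = rp 22 * g} ≤ cenK 22 :=
  card_comm_le_of_census 22 802911608835807113482247601074080833 630151316503264220810933690560480267 21 (by decide +kernel) cen_k22

theorem card_cen_le_24 : Nat.card {g : M24 // g * rp 24 = rp 24 * g} ≤ cenK 24 :=
  card_comm_le_of_census 24 777071106882502488264671919099481153 236519981581295117253054053101929491 23 (by decide +kernel) cen_k24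

theorem card_cen_le_12 : Nat.card {g : M24 // g * rp 12 = rp 12 * g} ≤ cenK 12 := by
  rw [rp_eq_inv 12 (by decide), card_comm_inv]
  exact card_cen_le_11

theorem card_cen_le_19 : Nat.card {g : M24 // g * rp 19 = rp 19 * g} ≤ cenK 19 := by
  rw [rp_eq_inv 19 (by decide), card_comm_inv]
  exact card_cen_le_18

theorem card_cen_le_21 : Nat.card {g : M24 // g * rp 21 = rp 21 * g} ≤ cenK 21 := by
  rw [rp_eq_inv 21 (by decide), card_comm_inv]
  exact card_cen_le_20

theorem card_cen_le_23 : Nat.card {g : M24 // g * rp 23 = rp 23 * g} ≤ cenK 23 := by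
  rw [rp_eq_inv 23 (by decide), card_comm_inv]
  exact card_cen_le_22

theorem card_cen_le_25 : Nat.card {g : M24 // g * rp 25 = rp 25 * g} ≤ cenK 25 := by
  rw [rp_eq_inv 25 (by decide), card_comm_inv]
  exact card_cen_le_24

theorem card_cen_le (k : Fin 26) : Nat.card {g : M24 // g * rp k = rp k * g} ≤ cenK k := by
  fin_cases k
  · exact card_cen_le_0
  · exact card_cen_le_1
  · exact card_cen_le_2
  · exact card_cen_le_3
  · exact card_cen_le_4
  · exact card_cen_le_5
  · exact card_cen_le_6
  · exact card_cen_le_7
  · exact card_cen_le_8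
  · exact card_cen_le_9
  · exact card_cen_le_10
  · exact card_cen_le_11
  · exact card_cen_le_12
  · exact card_cen_le_13
  · exact card_cen_le_14
  · exact card_cen_le_15
  · exact card_cen_le_16
  · exact card_cen_le_17
  · exact card_cen_le_18
  · exact card_cen_le_19
  · exact card_cen_le_20
  · exact card_cen_le_21
  · exact card_cen_le_22
  · exact card_cen_le_23
  · exact card_cen_le_24
  · exact card_cen_le_25

theorem no_semi_of_census (i j : Fin 26) (R R' RI : ℕ) (hR : rc i = R) (hR' : rc j = R')
    (hc : PS0 R R' RI = 0) (g : M24) : g * rp i ≠ rp j * g := by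
  have h := rp_code i
  rw [hR] at h
  have h' := rp_code j
  rw [hR'] at h'
  have hle := card_semi_le (rp i) (rp j) h h' RI
  rw [hc] at hle
  intro hg
  have h0 : Nat.card {g : M24 // g * rp i = rp j * g} = 0 := Nat.le_zero.mp hle
  rcases Nat.card_eq_zero.mp h0 with h1 | h1
  · exact h1.false ⟨g, hg⟩
  · exact absurd (inferInstance : Finite {g : M24 // g * rp i = rp j * g}) (not_finite_iff_infinite.mpr h1)

theorem no_semi_12 (g : M24) : g * rp 11 ≠ rp 12 * g :=
  no_semi_of_census 11 12 344628055745714154984632857831541825 850575307188511233175569963485824007 850575307188511233175569963485824007 (by decide +kernel) (by decide +kernel) tw_k12 g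

theorem no_semi_19 (g : M24) : g * rp 18 ≠ rp 19 * g :=
  no_semi_of_census 18 19 263091432247933994759735005259369537 234526035306603405224055459778987017 234526035306603405224055459778987017 (by decide +kernel) (by decide +kernel) tw_k19 g

theorem no_semi_21 (g : M24) : g * rp 20 ≠ rp 21 * g :=
  no_semi_of_census 20 21 763860014468160752105954849263324225 723768466855595441516524632804492299 723768466855595441516524632804492299 (by decide +kernel) (by decide +kernel) tw_k21 g

theorem no_semi_23 (g : M24) : g * rp 22 ≠ rp 23 * g :=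
  no_semi_of_census 22 23 802911608835807113482247601074080833 630151316503264220810933690560480267 630151316503264220810933690560480267 (by decide +kernel) (by decide +kernel) tw_k23 g

theorem no_semi_25 (g : M24) : g * rp 24 ≠ rp 25 * g :=
  no_semi_of_census 24 25 777071106882502488264671919099481153 236519981581295117253054053101929491 236519981581295117253054053101929491 (by decide +kernel) (by decide +kernel) tw_k25 g

theorem no_semi (k : Fin 26) (hk : pre k ≠ k) (g : M24) : g * rp (pre k) ≠ rp k * g := by
  fin_cases k
  · exact absurd rfl hk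
  · exact absurd rfl hk
  · exact absurd rfl hk
  · exact absurd rfl hk
  · exact absurd rfl hk
  · exact absurd rfl hk
  · exact absurd rfl hk
  · exact absurd rfl hk
  · exact absurd rfl hk
  · exact absurd rfl hk
  · exact absurd rfl hk
  · exact absurd rfl hk
  · exact no_semi_12 g
  · exact absurd rfl hk
  · exact absurd rfl hk
  · exact absurd rfl hk
  · exact absurd rfl hk
  · exact absurd rfl hk
  · exact absurd rfl hk
  · exact no_semi_19 g
  · exact absurd rfl hk
  · exact no_semi_21 g
  · exact absurd rfl hk
  · exact no_semi_23 g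
  · exact absurd rfl hk
  · exact no_semi_25 g

end Cfsg.Agent.Helper27.M24B
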