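import Cfsg.Agent.Helper27.M24B.Lab

/-!
Elements of `M24` given by their indices in the seven lists of the stabiliser chain; the class representatives;
the functions counting, for a list of elements `x` and a list of class representatives `r`, the cells of the
products `x * r`, packed into one number.
-/

set_option autoImplicit false
set_option maxRecDepth 100000

namespace Cfsg.Agent.Helper27.M24B

open Cfsg Cfsg.Agent.Helper7 Cfsg.Agent.Helper27.FusCode Cfsg.Agent.Helper27.FusTab Cfsg.Agent.Helper27.M22B
  Cfsg.Agent.Helper27.CodeEnum

/-- the code of the element with packed index `i` in the seven lists -/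
def codeAt24 (i : ℕ) : ℕ :=
  compU (compU (compU (compU (compU (compU
    (nthD LA (Nat.div i 10200960) idc)
    (nthD LB (Nat.mod (Nat.div i 443520) 23) idc))
    (nthD topC (Nat.mod (Nat.div i 20160) 22) idc))
    (nthD sndC (Nat.mod (Nat.div i 960) 21) idc))
    (nthD L5 (Nat.mod (Nat.div i 48) 20) idc))
    (nthD L6 (Nat.mod (Nat.div i 3) 16) idc))
    (nthD L7 (Nat.mod i 3) idc)

theorem coded24_idc : ∃ g ∈ M24, IsCode idc g := ⟨1, M24.one_mem, isCode_idc⟩

theorem coded24_nthD {L : List ℕ} (hL : L ∈ lev7) (i : ℕ) : ∃ g ∈ M24, IsCode (nthD L i idc) g := by
  rcases nthD_mem_or L i idc with h | h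
  · exact lev7_coded L hL _ h
  · rw [h]
    exact coded24_idc

theorem coded_codeAt24 (i : ℕ) : ∃ g ∈ M24, IsCode (codeAt24 i) g := by
  obtain ⟨g1, h1, c1⟩ := coded24_nthD (L := LA) (by simp [lev7]) (Nat.div i 10200960)
  obtain ⟨g2, h2, c2⟩ := coded24_nthD (L := LB) (by simp [lev7]) (Nat.mod (Nat.div i 443520) 23)
  obtain ⟨g3, h3, c3⟩ := coded24_nthD (L := topC) (by simp [lev7]) (Nat.mod (Nat.div i 20160) 22)
  obtain ⟨g4, h4, c4⟩ := coded24_nthD (L := sndC) (by simp [lev7]) (Nat.mod (Nat.div i 960) 21)
  obtain ⟨g5, h5, c5⟩ := coded24_nthD (L := L5) (by simp [lev7]) (Nat.mod (Nat.div i 48) 20)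
  obtain ⟨g6, h6, c6⟩ := coded24_nthD (L := L6) (by simp [lev7]) (Nat.mod (Nat.div i 3) 16)
  obtain ⟨g7, h7, c7⟩ := coded24_nthD (L := L7) (by simp [lev7]) (Nat.mod i 3)
  exact ⟨g1 * g2 * g3 * g4 * g5 * g6 * g7,
    M24.mul_mem (M24.mul_mem (M24.mul_mem (M24.mul_mem (M24.mul_mem (M24.mul_mem h1 h2) h3) h4) h5) h6) h7,
    isCode_mul (isCode_mul (isCode_mul (isCode_mul (isCode_mul (isCode_mul c1 c2) c3) c4) c5) c6) c7⟩

theorem norm_codeAt24 (i : ℕ) : encL (dec (codeAt24 i)) = codeAt24 i := norm_compU _ _

/-- the packed indices of the class representatives -/
def repIdx : List ℕ := [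
  0, 19868127, 19868076,
  10622593, 10623258, 10219645,
  10219952, 10219930, 10201828,
  10201095, 10201004, 10201242,
  78884718, 10200968, 10200992,
  10200979, 10200989, 10200998,
  10201005, 101635286, 10200978,
  122009149, 10201001, 122009150,
  10201007, 201411171
]

/-- the codes of the class representatives; the representatives `12`, `19`, `21`, `23`, `25` are the inverses
of their predecessors -/
def repC : List ℕ := [
  984818244535754528103549039458486304, 984490757400711034068282643818023937, 509592002419337094491636749927779329,
  979017549504734623149439527862534209, 443191515793285835463589994272260161, 635592976057612735777238094101613633,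
  303004643952765262994427047677267009, 797307320635957284988863300911500353, 962705455202652488669254449853762625,
  966468801597256276700688793717574721, 423558135689753353411436962039073857, 344628055745714154984632857831541825,
  850575307188511233175569963485824007, 693184910677510198799085212615707713, 604354095729424183169778128566488129,
  977871584429521527159478125683936321, 632951282503715812965806485923826753, 582369433065415099005278072429743169,
  263091432247933994759735005259369537, 234526035306603405224055459778987017, 763860014468160752105954849263324225,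
  723768466855595441516524632804492299, 802911608835807113482247601074080833, 630151316503264220810933690560480267,
  777071106882502488264671919099481153, 236519981581295117253054053101929491
]

/-- the codes of the inverses of the class representatives (used as hints only) -/
def repIC : List ℕ := [
  984818244535754528103549039458486304, 984490757400711034068282643818023937, 509592002419337094491636749927779329,
  974352010787510121420557797545083906, 765468569697373006951982964977861634, 637908982369809871185314658956411907,
  427619451959570457956458432377717763, 510772855970988053329703614610998275, 980681463484433654587673288450835460,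
  976493423506919008508865668187227143, 384855561251388358664471826350015493, 850575307188511233175569963485824007,
  344628055745714154984632857831541825, 652016344405110148046472835247440917, 562645676193011655945314985061712912,
  966552503809944128205175088976299021, 605449779846759962928974994628215814, 683017165526709814985637739852006422,
  234526035306603405224055459778987017, 263091432247933994759735005259369537, 723768466855595441516524632804492299,
  763860014468160752105954849263324225, 630151316503264220810933690560480267, 802911608835807113482247601074080833,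
  236519981581295117253054053101929491, 777071106882502488264671919099481153
]

theorem repC_eq : repC = repIdx.map codeAt24 := by decide +kernel

theorem repC_length : repC.length = 26 := rfl

theorem repIC_length : repIC.length = 26 := rfl

/-- the code of the `k`-th class representative -/
def rc (k : Fin 26) : ℕ := repC[k.1]'(by rw [repC_length]; exact k.2)

/-- the code of the inverse of the `k`-th class representative -/
def ri (k : Fin 26) : ℕ := repIC[k.1]'(by rw [repIC_length]; exact k.2)

theorem rc_mem (k : Fin 26) : rc k ∈ repC := List.getElem_mem _

theorem exists_rp (k : Fin 26) : ∃ g : M24, IsCode (rc k) g.1 := by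
  have h := rc_mem k
  rw [repC_eq, List.mem_map] at h
  obtain ⟨i, _, hi⟩ := h
  obtain ⟨g, hg, hc⟩ := coded_codeAt24 i
  rw [hi] at hc
  exact ⟨⟨g, hg⟩, hc⟩

/-- the `k`-th class representative -/
noncomputable def rp (k : Fin 26) : M24 := Classical.choose (exists_rp k)

theorem rp_code (k : Fin 26) : IsCode (rc k) (rp k).1 := Classical.choose_spec (exists_rp k)

theorem rc_norm (k : Fin 26) : encL (dec (rc k)) = rc k := by
  have h := rc_mem k
  rw [repC_eq, List.mem_map] at h
  obtain ⟨i, _, hi⟩ := h
  rw [← hi]
  exact norm_codeAt24 i

/-- the base of the inner packing -/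
def BB : ℕ := 65536

/-- the base of the outer packing -/
def WW : ℕ := 139984046386112763159840142535527767382602843577165595931249318810236991948760059086304843329475444736

theorem WW_eq : WW = BB ^ 21 := by decide +kernel

/-- the cell of the product of the elements coded by `c` and `r` -/
def cellP (c r : ℕ) : ℕ := cellOf (forceNat labU (compU c r))

theorem cellP_eq (c r : ℕ) : cellP c r = cellOf (labU (compU c r)) := by
  unfold cellP
  rw [forceNat_eq]

theorem cellP_lt (c r : ℕ) : cellP c r < 21 := by
  rw [cellP_eq]
  exact cellOf_lt _

/-- the representatives used with the first class of involutions: all except those which are inverses of others -/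
def repA : List ℕ := [
  984818244535754528103549039458486304, 984490757400711034068282643818023937, 509592002419337094491636749927779329,
  979017549504734623149439527862534209, 443191515793285835463589994272260161, 635592976057612735777238094101613633,
  303004643952765262994427047677267009, 797307320635957284988863300911500353, 962705455202652488669254449853762625,
  966468801597256276700688793717574721, 423558135689753353411436962039073857, 344628055745714154984632857831541825,
  693184910677510198799085212615707713, 604354095729424183169778128566488129, 977871584429521527159478125683936321,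
  632951282503715812965806485923826753, 582369433065415099005278072429743169, 263091432247933994759735005259369537,
  763860014468160752105954849263324225, 802911608835807113482247601074080833, 777071106882502488264671919099481153
]

/-- the representatives used with the second class of involutions: those of the cells `2` and `7` -/
def repB : List ℕ := [
  509592002419337094491636749927779329, 797307320635957284988863300911500353
]

/-- the packed one-hot vectors of the cells of the products of `c` with the elements of `repA` -/
def hornerA (c : ℕ) : ℕ :=
  Nat.add (Nat.pow BB (cellP c 984818244535754528103549039458486304)) (Nat.mul WW (Nat.add (Nat.pow BB (cellP c 984490757400711034068282643818023937)) (Nat.mul WW (Nat.add (Nat.pow BB (cellP c 509592002419337094491636749927779329)) (Nat.mul WW (Nat.add (Nat.pow BB (cellP c 979017549504734623149439527862534209)) (Nat.mul WW (Nat.add (Nat.pow BB (cellP c 443191515793285835463589994272260161)) (Nat.mul WW (Nat.add (Nat.pow BB (cellP c 635592976057612735777238094101613633)) (Nat.mul WW (Nat.add (Nat.pow BB (cellP c 303004643952765262994427047677267009)) (Nat.mul WW (Nat.add (Nat.pow BB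 (cellP c 797307320635957284988863300911500353)) (Nat.mul WW (Nat.add (Nat.pow BB (cellP c 962705455202652488669254449853762625)) (Nat.mul WW (Nat.add (Nat.pow BB (cellP c 966468801597256276700688793717574721)) (Nat.mul WW (Nat.add (Nat.pow BB (cellP c 423558135689753353411436962039073857)) (Nat.mul WW (Nat.add (Nat.pow BB (cellP c 344628055745714154984632857831541825)) (Nat.mul WW (Nat.add (Nat.pow BB (cellP c 693184910677510198799085212615707713)) (Nat.mul WW (Nat.add (Nat.pow BB (cellP c 604354095729424183169778128566488129)) (Nat.mul WW (Nat.add (Nat.pow BB (cellP c 977871584429521527159478125683936321)) (Nat.mul WW (Nat.add (Nat.pow BB (cellP c 632951282503715812965806485923826753)) (Nat.mul WW (Nat.add (Nat.pow BB (cellP c 582369433065415099005278072429743169)) (Nat.mul WW (Nat.add (Nat.pow BB (cellP c 263091432247933994759735005259369537)) (Nat.mul WW (Nat.add (Nat.pow BB (cellP c 763860014468160752105954849263324225)) (Nat.mul WW (Nat.add (Nat.pow BB (cellP c 802911608835807113482247601074080833)) (Nat.mul WW (Nat.add (Nat.pow BB (cellP c 777071106882502488264671919099481153)) (Nat.mul WW 0)))))))))))))))))))))))))))))))))))))))))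

/-- the packed one-hot vectors of the cells of the products of `c` with the elements of `repB` -/
def hornerB (c : ℕ) : ℕ :=
  Nat.add (Nat.pow BB (cellP c 509592002419337094491636749927779329)) (Nat.mul WW (Nat.add (Nat.pow BB (cellP c 797307320635957284988863300911500353)) (Nat.mul WW 0)))

section

attribute [local irreducible] cellP

theorem hornerA_eq (c : ℕ) : hornerA c = pack WW (repA.map (fun r => BB ^ cellP c r)) := by
  unfold hornerA
  simp only [repA, List.map_cons, List.map_nil, pack]
  rfl

theorem hornerB_eq (c : ℕ) : hornerB c = pack WW (repB.map (fun r => BB ^ cellP c r)) := by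
  unfold hornerB
  simp only [repB, List.map_cons, List.map_nil, pack]
  rfl

end

/-- the contribution of the element with packed index `i`, first class -/
def contribA (i : ℕ) : ℕ := forceNat hornerA (codeAt24 i)

/-- the contribution of the element with packed index `i`, second class -/
def contribB (i : ℕ) : ℕ := forceNat hornerB (codeAt24 i)

theorem contribA_eq (i : ℕ) : contribA i = pack WW (repA.map (fun r => BB ^ cellP (codeAt24 i) r)) := by
  unfold contribA
  rw [forceNat_eq, hornerA_eq]

theorem contribB_eq (i : ℕ) : contribB i = pack WW (repB.map (fun r => BB ^ cellP (codeAt24 i) r)) := by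
  unfold contribB
  rw [forceNat_eq, hornerB_eq]

/-- the packed counts for a list of elements -/
def chunkSumA (ch : List ℕ) : ℕ := ssum contribA ch 0

def chunkSumB (ch : List ℕ) : ℕ := ssum contribB ch 0

theorem chunkSumA_eq (ch : List ℕ) : chunkSumA ch = (ch.map contribA).sum := by
  unfold chunkSumA
  rw [ssum_eq, Nat.zero_add]

theorem chunkSumB_eq (ch : List ℕ) : chunkSumB ch = (ch.map contribB).sum := by
  unfold chunkSumB
  rw [ssum_eq, Nat.zero_add]

/-- check that the codes of the elements of a list increase strictly, starting above `prev`, and that all elements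
lie in the cell `want`; the result is the last code, or `0` if the check fails -/
def incrLab (want : ℕ) : List ℕ → ℕ → ℕ
  | [], prev => prev
  | i :: rest, prev => forceNat (fun c =>
      cond (Nat.blt prev c && Nat.beq (cellOf (forceNat labU c)) want) (incrLab want rest c) 0) (codeAt24 i)

/-- what the check gives -/
structure ChunkGood (want lo hi : ℕ) (ch : List ℕ) : Prop where
  le : lo ≤ hi
  sorted : (ch.map codeAt24).Pairwise (· < ·)
  bounds : ∀ i ∈ ch, lo < codeAt24 i ∧ codeAt24 i ≤ hi
  cells : ∀ i ∈ ch, cellOf (labU (codeAt24 i)) = want

theorem chunkGood_of_incrLab (want : ℕ) : ∀ (ch : List ℕ) (lo hi : ℕ), incrLab want ch lo = hi → hi ≠ 0 →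
    ChunkGood want lo hi ch
  | [], lo, hi, h, _ => by
    have e : lo = hi := h
    exact ⟨le_of_eq e, by simp, by simp, by simp⟩
  | i :: rest, lo, hi, h, h0 => by
    rw [incrLab, forceNat_eq, forceNat_eq] at h
    cases hc : (Nat.blt lo (codeAt24 i) && Nat.beq (cellOf (labU (codeAt24 i))) want)
    · rw [hc, cond_false] at h
      exact absurd h.symm h0
    · rw [hc, cond_true] at h
      rw [Bool.and_eq_true, Nat.blt_eq, beq_true_iff] at hc
      have ih := chunkGood_of_incrLab want rest (codeAt24 i) hi h h0
      refine ⟨le_trans (le_of_lt hc.1) ih.le, ?_, ?_, ?_⟩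
      · rw [List.map_cons, List.pairwise_cons]
        refine ⟨?_, ih.sorted⟩
        intro b hb
        obtain ⟨j, hj, rfl⟩ := List.mem_map.mp hb
        exact (ih.bounds j hj).1
      · intro j hj
        rcases List.mem_cons.mp hj with rfl | hj
        · exact ⟨hc.1, ih.le⟩
        · exact ⟨lt_trans hc.1 (ih.bounds j hj).1, (ih.bounds j hj).2⟩
      · intro j hj
        rcases List.mem_cons.mp hj with rfl | hj
        · exact hc.2
        · exact ih.cells j hj

theorem ChunkGood.append {want lo mid hi : ℕ} {l₁ l₂ : List ℕ} (h₁ : ChunkGood want lo mid l₁)
    (h₂ : ChunkGood want mid hi l₂) : ChunkGood want lo hi (l₁ ++ l₂) := by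
  refine ⟨le_trans h₁.le h₂.le, ?_, ?_, ?_⟩
  · rw [List.map_append, List.pairwise_append]
    refine ⟨h₁.sorted, h₂.sorted, ?_⟩
    intro a ha b hb
    obtain ⟨i, hi, rfl⟩ := List.mem_map.mp ha
    obtain ⟨j, hj, rfl⟩ := List.mem_map.mp hb
    exact lt_of_le_of_lt (h₁.bounds i hi).2 (h₂.bounds j hj).1
  · intro i hi
    rcases List.mem_append.mp hi with hi | hi
    · exact ⟨(h₁.bounds i hi).1, le_trans (h₁.bounds i hi).2 h₂.le⟩
    · exact ⟨lt_of_le_of_lt h₁.le (h₂.bounds i hi).1, (h₂.bounds i hi).2⟩
  · intro i hi
    rcases List.mem_append.mp hi with hi | hi
    · exact h₁.cells i hi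
    · exact h₂.cells i hi

theorem good_of_incr {want lo hi : ℕ} {ch : List ℕ} (h : incrLab want ch lo = hi) (h0 : hi ≠ 0) :
    ChunkGood want lo hi ch := chunkGood_of_incrLab want ch lo hi h h0

theorem sumA_of_chunk {ch : List ℕ} {T : ℕ} (h : chunkSumA ch = T) : (ch.map contribA).sum = T := by
  rw [← chunkSumA_eq]
  exact h

theorem sumB_of_chunk {ch : List ℕ} {T : ℕ} (h : chunkSumB ch = T) : (ch.map contribB).sum = T := by
  rw [← chunkSumB_eq]
  exact h

theorem sum_append_eq {f : ℕ → ℕ} {l₁ l₂ : List ℕ} {a b : ℕ} (h₁ : (l₁.map f).sum = a)
    (h₂ : (l₂.map f).sum = b) : ((l₁ ++ l₂).map f).sum = a + b := by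
  rw [List.map_append, List.sum_append, h₁, h₂]

theorem len_append_eq {l₁ l₂ : List ℕ} {a b : ℕ} (h₁ : l₁.length = a) (h₂ : l₂.length = b) :
    (l₁ ++ l₂).length = a + b := by
  rw [List.length_append, h₁, h₂]

end Cfsg.Agent.Helper27.M24B
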