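import Cfsg.Agent.Helper27.M24B.ClassData
import Cfsg.Agent.Helper27.ClassAlg3

/-!
The twenty-six class representatives of `M24` are pairwise not conjugate and every element is conjugate to one of
them; the sizes of the classes and of the twenty-one cells; the orders of the elements of the cells.
-/

set_option autoImplicit false
set_option maxRecDepth 100000

namespace Cfsg.Agent.Helper27.M24B

open Cfsg Cfsg.Agent.Helper7 Cfsg.Agent.Helper27.FusCode Cfsg.Agent.Helper27.FusTab Cfsg.Agent.Helper27.M22B
  Cfsg.Agent.Helper27.ClassAlg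

noncomputable instance fintypeM24 : Fintype M24 := Fintype.ofFinite M24

noncomputable instance decEqM24 : DecidableEq M24 := Classical.decEq M24

theorem card_M24' : Fintype.card M24 = 244823040 := by
  rw [← Nat.card_eq_fintype_card, card_M24]

/-- the cell of a class -/
def cf : Fin 26 → Fin 21 := ![0, 1, 2, 3, 4, 5, 6, 7, 8, 9, 10, 11, 11, 12, 13, 14, 15, 16, 17, 17, 18, 18, 19, 19, 20, 20]

theorem cf_chk : ∀ k : Fin 26, cellOf (labU (rc k)) = (cf k).1 := by decide +kernel

theorem kap_rp (k : Fin 26) : kap (rp k) = cf k := by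
  apply Fin.ext
  rw [kap_of_code (rp_code k), cf_chk]

theorem kap_of_isConj' {a b : M24} (h : IsConj a b) : kap b = kap a := by
  obtain ⟨c, hc⟩ := isConj_iff.mp h
  rw [← hc, kap_conj]

theorem cf_eq_cases : ∀ i j : Fin 26, i ≠ j → cf i = cf j → (pre j ≠ j ∧ i = pre j) ∨ (pre i ≠ i ∧ j = pre i) := by
  decide

theorem not_conj_of_no_semi {a b : M24} (h : ∀ g : M24, g * a ≠ b * g) : ¬ IsConj a b := by
  intro hc
  obtain ⟨c, hc⟩ := isConj_iff.mp hc
  apply h c
  rw [← hc]
  group

/-- distinct representatives are not conjugate -/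
theorem not_conj (i j : Fin 26) (hij : i ≠ j) : ¬ IsConj (rp i) (rp j) := by
  intro hc
  by_cases h : cf i = cf j
  · rcases cf_eq_cases i j hij h with ⟨h1, h2⟩ | ⟨h1, h2⟩
    · rw [h2] at hc
      exact not_conj_of_no_semi (no_semi j h1) hc
    · rw [h2] at hc
      exact not_conj_of_no_semi (no_semi i h1) hc.symm
  · apply h
    rw [← kap_rp i, ← kap_rp j]
    exact (kap_of_isConj' hc).symm

/-- the conjugacy class of the `k`-th representative -/
noncomputable def cls (k : Fin 26) : Finset M24 := Helper78.classFinset (rp k)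

theorem card_cls_mul_ge (k : Fin 26) : 244823040 ≤ cenK k * (cls k).card := by
  unfold cls
  rw [Helper78.card_classFinset]
  have e : Nat.card {g : M24 // g * rp k = rp k * g} =
      Nat.card (Subgroup.centralizer ({rp k} : Set M24)) := by
    apply Nat.card_congr
    apply Equiv.subtypeEquivRight
    intro g
    rw [Subgroup.mem_centralizer_iff]
    constructor
    · intro h x hx
      rw [Set.mem_singleton_iff] at hx
      rw [hx, h]
    · intro h
      exact (h (rp k) (Set.mem_singleton _)).symm
  have h1 := card_cen_le k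
  rw [e] at h1
  have h2 := Subgroup.index_mul_card (Subgroup.centralizer ({rp k} : Set M24))
  rw [card_M24] at h2
  calc 244823040 = (Subgroup.centralizer ({rp k} : Set M24)).index *
        Nat.card (Subgroup.centralizer ({rp k} : Set M24)) := h2.symm
    _ ≤ (Subgroup.centralizer ({rp k} : Set M24)).index * cenK k := Nat.mul_le_mul_left _ h1
    _ = cenK k * (Subgroup.centralizer ({rp k} : Set M24)).index := Nat.mul_comm _ _

theorem div_le_card_cls (k : Fin 26) : 244823040 / cenK k ≤ (cls k).card :=
  Nat.div_le_of_le_mul (card_cls_mul_ge k)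

theorem sum_div_cenK : ∑ k : Fin 26, 244823040 / cenK k = 244823040 := by decide +kernel

theorem cls_disjoint : ∀ i ∈ (Finset.univ : Finset (Fin 26)), ∀ j ∈ (Finset.univ : Finset (Fin 26)),
    i ≠ j → Disjoint (cls i) (cls j) := by
  intro i _ j _ hij
  rw [Finset.disjoint_left]
  intro x hxi hxj
  unfold cls at hxi hxj
  rw [Helper78.mem_classFinset] at hxi hxj
  exact not_conj i j hij (hxi.trans hxj.symm)

theorem sum_card_cls : ∑ k : Fin 26, (cls k).card = 244823040 := by
  apply le_antisymm
  · rw [← Finset.card_biUnion cls_disjoint, ← card_M24']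
    exact Finset.card_le_univ _
  · rw [← sum_div_cenK]
    exact Finset.sum_le_sum (fun k _ => div_le_card_cls k)

/-- the sizes of the classes -/
theorem card_cls (k : Fin 26) : (cls k).card = 244823040 / cenK k := by
  have h := (Finset.sum_eq_sum_iff_of_le (s := Finset.univ) (fun k _ => div_le_card_cls k)).mp
    (by rw [sum_div_cenK, sum_card_cls])
  exact (h k (Finset.mem_univ k)).symm

/-- every element is conjugate to one of the representatives -/
theorem cover (g : M24) : ∃ k : Fin 26, IsConj (rp k) g := by
  have hcard : (Finset.univ.biUnion cls).card = 244823040 := by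
    rw [Finset.card_biUnion cls_disjoint]
    exact sum_card_cls
  have huniv : Finset.univ.biUnion cls = Finset.univ := by
    apply Finset.eq_univ_of_card
    rw [hcard, card_M24']
  have hg : g ∈ Finset.univ.biUnion cls := by
    rw [huniv]
    exact Finset.mem_univ g
  rw [Finset.mem_biUnion] at hg
  obtain ⟨k, _, hk⟩ := hg
  unfold cls at hk
  rw [Helper78.mem_classFinset] at hk
  exact ⟨k, hk⟩

/-- the index of the class of `g` -/
noncomputable def fineOf (g : M24) : Fin 26 := Classical.choose (cover g)

theorem fineOf_spec (g : M24) : IsConj (rp (fineOf g)) g := Classical.choose_spec (cover g)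

theorem fineOf_eq {g : M24} {k : Fin 26} (h : IsConj (rp k) g) : fineOf g = k := by
  by_contra hne
  exact not_conj _ _ hne ((fineOf_spec g).trans h.symm)

theorem kap_eq_cf (g : M24) : kap g = cf (fineOf g) := by
  rw [kap_of_isConj' (fineOf_spec g), kap_rp]

theorem orderOf_eq_of_isConj {Γ : Type*} [Group Γ] {a b : Γ} (h : IsConj a b) : orderOf a = orderOf b := by
  obtain ⟨c, hc⟩ := isConj_iff.mp h
  rw [← hc]
  have : c * a * c⁻¹ = (MulAut.conj c) a := rfl
  rw [this, MulEquiv.orderOf_eq]

theorem orderOf_eq_ordK (g : M24) : orderOf g = ordK (fineOf g) := by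
  rw [← orderOf_rp, orderOf_eq_of_isConj (fineOf_spec g)]

/-- the orders of the elements of the cells -/
def ordCell : Fin 21 → ℕ := ![1, 2, 2, 3, 3, 4, 4, 4, 5, 6, 6, 7, 8, 10, 11, 12, 12, 14, 15, 21, 23]

theorem ordK_eq_ordCell : ∀ k : Fin 26, ordK k = ordCell (cf k) := by decide

theorem orderOf_eq_ordCell (g : M24) : orderOf g = ordCell (kap g) := by
  rw [orderOf_eq_ordK, ordK_eq_ordCell, kap_eq_cf]

theorem cf_eq_zero : ∀ k : Fin 26, cf k = 0 → k = 0 := by decide

theorem kap_eq_zero_iff (g : M24) : kap g = 0 ↔ g = 1 := by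
  constructor
  · intro h
    have h1 := orderOf_eq_ordCell g
    rw [h] at h1
    exact orderOf_eq_one_iff.mp h1
  · intro h
    rw [h, ← rp_zero, kap_rp]
    rfl

/-- the cells of the elements of odd order -/
def oddCell : Fin 21 → Bool := ![true, false, false, true, true, false, false, false, true, false, false, true, false, false, true, false, false, false, true, true, true]

theorem oddCell_iff : ∀ c : Fin 21, oddCell c = true ↔ ¬ 2 ∣ ordCell c := by decide

theorem odd_iff_kap (g : M24) : ¬ 2 ∣ orderOf g ↔ oddCell (kap g) = true := by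
  rw [oddCell_iff, orderOf_eq_ordCell]

/-- the sizes of the cells -/
def csize : Fin 21 → ℕ := ![1, 11385, 31878, 226688, 485760, 637560, 1912680, 2550240, 4080384, 10200960, 10200960, 11658240, 15301440, 12241152, 22256640, 20401920, 20401920, 34974720, 32643072, 23316480, 21288960]

theorem csize_chk : ∀ n : Fin 21, ∑ k : Fin 26, (if cf k = n then 244823040 / cenK k else 0) = csize n := by
  decide +kernel

theorem card_cell (n : Fin 21) : (cell kap n).card = csize n := by
  have h1 : cell kap n = (Finset.univ.filter (fun k => cf k = n)).biUnion cls := by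
    ext g
    rw [mem_cell, Finset.mem_biUnion]
    constructor
    · intro h
      refine ⟨fineOf g, ?_, ?_⟩
      · rw [Finset.mem_filter]
        exact ⟨Finset.mem_univ _, by rw [← kap_eq_cf, h]⟩
      · unfold cls
        rw [Helper78.mem_classFinset]
        exact fineOf_spec g
    · rintro ⟨k, hk, hg⟩
      rw [Finset.mem_filter] at hk
      unfold cls at hg
      rw [Helper78.mem_classFinset] at hg
      rw [kap_of_isConj' hg, kap_rp, hk.2]
  rw [h1, Finset.card_biUnion (fun i _ j _ hij => cls_disjoint i (Finset.mem_univ _) j (Finset.mem_univ _) hij),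
    Finset.sum_filter, ← csize_chk n]
  refine Finset.sum_congr rfl (fun k _ => ?_)
  by_cases hk : cf k = n
  · rw [if_pos hk, if_pos hk, card_cls]
  · rw [if_neg hk, if_neg hk]

theorem csize_pos : ∀ n : Fin 21, 0 < csize n := by decide

end Cfsg.Agent.Helper27.M24B
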