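import Cfsg.Agent.Helper27.M24B.InvolGen
import Cfsg.Agent.Helper27.M24B.InvA0
import Cfsg.Agent.Helper27.M24B.InvA1
import Cfsg.Agent.Helper27.M24B.InvA2
import Cfsg.Agent.Helper27.M24B.InvA3
import Cfsg.Agent.Helper27.M24B.InvA4
import Cfsg.Agent.Helper27.M24B.InvA5
import Cfsg.Agent.Helper27.M24B.InvA6
import Cfsg.Agent.Helper27.M24B.InvA7
import Cfsg.Agent.Helper27.M24B.InvA8
import Cfsg.Agent.Helper27.M24B.InvA9
import Cfsg.Agent.Helper27.M24B.InvA10
import Cfsg.Agent.Helper27.M24B.InvA11
import Cfsg.Agent.Helper27.M24B.InvA12
import Cfsg.Agent.Helper27.M24B.InvA13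
import Cfsg.Agent.Helper27.M24B.InvA14
import Cfsg.Agent.Helper27.M24B.InvA15
import Cfsg.Agent.Helper27.M24B.InvA16
import Cfsg.Agent.Helper27.M24B.InvA17
import Cfsg.Agent.Helper27.M24B.InvA18
import Cfsg.Agent.Helper27.M24B.InvB0
import Cfsg.Agent.Helper27.M24B.InvB1
import Cfsg.Agent.Helper27.M24B.InvB2
import Cfsg.Agent.Helper27.M24B.InvB3
import Cfsg.Agent.Helper27.M24B.InvB4
import Cfsg.Agent.Helper27.M24B.InvB5

/-!
The two classes of involutions of `M24` as lists of elements, and the structure constants of their cells: all of
them for the first class, three rows for the second class.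
-/

set_option autoImplicit false
set_option maxRecDepth 100000

namespace Cfsg.Agent.Helper27.M24B

open Cfsg Cfsg.Agent.Helper7 Cfsg.Agent.Helper27.FusCode Cfsg.Agent.Helper27.FusTab Cfsg.Agent.Helper27.M22B
  Cfsg.Agent.Helper27.ClassAlg

/-- the packed indices of the involutions of the first class -/
def dataA : List ℕ := fileA_0 ++ (fileA_1 ++ (fileA_2 ++ (fileA_3 ++ (fileA_4 ++ (fileA_5 ++ (fileA_6 ++ (fileA_7 ++ (fileA_8 ++ (fileA_9 ++ (fileA_10 ++ (fileA_11 ++ (fileA_12 ++ (fileA_13 ++ (fileA_14 ++ (fileA_15 ++ (fileA_16 ++ (fileA_17 ++ (fileA_18))))))))))))))))))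

/-- the packed counts for the first class -/
def TA : ℕ := 1763488155476800949444588332633569981924580066074909247336978019958196429622005471262424597052954869617743595000861938217160600427277677653396062293629757456767611252896620495208231541424494248279414054632633310854691574893950478090727104966583485896856922959064598284645280804679871389977840812588010981261246482714301081650968205948643673314636972158332311830754938824747426764193748105696387287867030113674457828122794966705256943482001443855365797977843714837714926769335318731245594898181794173436937424417021995782664833401801759741099930982699207343457036825292146125773580199942238110873165538312275015333049321782169006041958894750700740822278839429984140558245495020736013914038315859383403018022420706208159501717917464291928632906793374305312635760404099531536770079452350671451203028126415170971026887650210254801007800676675797402717285562280998513512839368874607797452912637563350443374535494896247901942420186756933680658694971273675266814527144242496709174587520741991486675856524163217761943695359914962387288596717354812322401812652316271471763659785112799537167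9513889868313830082076388230704065875220539774513907542055092038438669217853949510663385362251828096320944022113690898849370214209487706289234261552418289097674354465032867256054074958006933587715116687709109210284152251550987291567416833498233044008230109999379594564297019245158513597864469775421834063773228461976519014066525063359363596795460628853281997198730841480722219986630126845247874229135483635533422590864792694030002509026749783213881730796503190723056096815213592241260305514519077577927383603338192360442677746012598737039781470745079022781872324874924498219097792540633596279190706482616333122160637670172510253390111776763006204260448033578935599488314579151541941399665058449418087498583685267401427881257068300498900842734167516526959233929932402476782033397284962750660698533945606838951320328769430907587424610897900071276004000537782006574702691590130291963202234950568562596245026512888863650713187647213283608056121790570691105223837260305322358673714216533594852725178349776746274881156879165770226575556594779095040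

theorem dataA_sum : (dataA.map contribA).sum = TA := by
  have h := sum_append_eq (fileA_0_sum) (sum_append_eq (fileA_1_sum) (sum_append_eq (fileA_2_sum) (sum_append_eq (fileA_3_sum) (sum_append_eq (fileA_4_sum) (sum_append_eq (fileA_5_sum) (sum_append_eq (fileA_6_sum) (sum_append_eq (fileA_7_sum) (sum_append_eq (fileA_8_sum) (sum_append_eq (fileA_9_sum) (sum_append_eq (fileA_10_sum) (sum_append_eq (fileA_11_sum) (sum_append_eq (fileA_12_sum) (sum_append_eq (fileA_13_sum) (sum_append_eq (fileA_14_sum) (sum_append_eq (fileA_15_sum) (sum_append_eq (fileA_16_sum) (sum_append_eq (fileA_17_sum) (fileA_18_sum))))))))))))))))))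
  exact h.trans (by decide +kernel)

theorem dataA_good : ChunkGood 1 0 984818243325042462882151804256527407 dataA := (fileA_0_good).append ((fileA_1_good).append ((fileA_2_good).append ((fileA_3_good).append ((fileA_4_good).append ((fileA_5_good).append ((fileA_6_good).append ((fileA_7_good).append ((fileA_8_good).append ((fileA_9_good).append ((fileA_10_good).append ((fileA_11_good).append ((fileA_12_good).append ((fileA_13_good).append ((fileA_14_good).append ((fileA_15_good).append ((fileA_16_good).append ((fileA_17_good).append (fileA_18_good))))))))))))))))))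

theorem dataA_len : dataA.length = 11385 := by
  have h := len_append_eq (fileA_0_len) (len_append_eq (fileA_1_len) (len_append_eq (fileA_2_len) (len_append_eq (fileA_3_len) (len_append_eq (fileA_4_len) (len_append_eq (fileA_5_len) (len_append_eq (fileA_6_len) (len_append_eq (fileA_7_len) (len_append_eq (fileA_8_len) (len_append_eq (fileA_9_len) (len_append_eq (fileA_10_len) (len_append_eq (fileA_11_len) (len_append_eq (fileA_12_len) (len_append_eq (fileA_13_len) (len_append_eq (fileA_14_len) (len_append_eq (fileA_15_len) (len_append_eq (fileA_16_len) (len_append_eq (fileA_17_len) (fileA_18_len))))))))))))))))))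
  exact h.trans (by decide +kernel)

/-- the packed indices of the involutions of the second class -/
def dataB : List ℕ := fileB_0 ++ (fileB_1 ++ (fileB_2 ++ (fileB_3 ++ (fileB_4 ++ (fileB_5)))))

/-- the packed counts for the second class -/
def TB : ℕ := 516688735379644131391121321669182504166815997354131010870429802491428884811199214541934020590209566291016315301227678657476212416069687097553745921043897381993704824319134324953607873727725737370910721

theorem dataB_sum : (dataB.map contribB).sum = TB := by
  have h := sum_append_eq (fileB_0_sum) (sum_append_eq (fileB_1_sum) (sum_append_eq (fileB_2_sum) (sum_append_eq (fileB_3_sum) (sum_append_eq (fileB_4_sum) (fileB_5_sum)))))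
  exact h.trans (by decide +kernel)

theorem dataB_good : ChunkGood 2 0 944538608241927857351799566555742722 dataB := (fileB_0_good).append ((fileB_1_good).append ((fileB_2_good).append ((fileB_3_good).append ((fileB_4_good).append (fileB_5_good)))))

theorem dataB_len : dataB.length = 31878 := by
  have h := len_append_eq (fileB_0_len) (len_append_eq (fileB_1_len) (len_append_eq (fileB_2_len) (len_append_eq (fileB_3_len) (len_append_eq (fileB_4_len) (fileB_5_len)))))
  exact h.trans (by decide +kernel)

/-- the structure constants of the first class of involutions, from the packed counts -/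
def AcoarseT (n n' : Fin 21) : ℕ := TA / WW ^ n'.1 % WW / BB ^ n.1 % BB

/-- two columns of the structure constants of the second class of involutions, from the packed counts -/
def BcolT (j : ℕ) (n : Fin 21) : ℕ := TB / WW ^ j % WW / BB ^ n.1 % BB

theorem repA_chk : ∀ k : Fin 26, pre k = k → repA[(cf k).1]? = some (rc k) := by decide +kernel

theorem repB_chk : repB[0]? = some (rc 2) ∧ repB[1]? = some (rc 7) := by decide +kernel

theorem cnt_A_rep (k : Fin 26) (hk : pre k = k) (n : Fin 21) :
    cnt (cell kap 1) (cell kap n) (rp k) = AcoarseT n (cf k) := by
  obtain ⟨hj, he⟩ := List.getElem?_eq_some_iff.mp (repA_chk k hk)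
  rw [cnt_eq_count dataA_good 1 rfl (by rw [dataA_len]; rfl) (by decide) (rp k) (rc k) (rp_code k) n, ← he]
  exact count_eq_digit dataA repA contribA contribA_eq TA dataA_sum (by rw [dataA_len]; decide) _ hj n.1 n.2

theorem cnt_B_rep2 (n : Fin 21) : cnt (cell kap 2) (cell kap n) (rp 2) = BcolT 0 n := by
  obtain ⟨hj, he⟩ := List.getElem?_eq_some_iff.mp repB_chk.1
  rw [cnt_eq_count dataB_good 2 rfl (by rw [dataB_len]; rfl) (by decide) (rp 2) (rc 2) (rp_code 2) n, ← he]
  exact count_eq_digit dataB repB contribB contribB_eq TB dataB_sum (by rw [dataB_len]; decide) _ hj n.1 n.2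

theorem cnt_B_rep7 (n : Fin 21) : cnt (cell kap 2) (cell kap n) (rp 7) = BcolT 1 n := by
  obtain ⟨hj, he⟩ := List.getElem?_eq_some_iff.mp repB_chk.2
  rw [cnt_eq_count dataB_good 2 rfl (by rw [dataB_len]; rfl) (by decide) (rp 7) (rc 7) (rp_code 7) n, ← he]
  exact count_eq_digit dataB repB contribB contribB_eq TB dataB_sum (by rw [dataB_len]; decide) _ hj n.1 n.2

theorem cell_invClosed (n : Fin 21) : InvClosed (cell kap n) := by
  intro x hx
  rw [mem_cell] at hx ⊢
  rw [kap_inv, hx]

theorem pre_chk2 : ∀ k : Fin 26, pre (pre k) = pre k ∧ cf (pre k) = cf k := by decide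

/-- the structure constants at any element are those at a class representative which is not defined as an inverse -/
theorem cnt_eq_pre (a n : Fin 21) (z : M24) :
    cnt (cell kap a) (cell kap n) z = cnt (cell kap a) (cell kap n) (rp (pre (fineOf z))) := by
  have hS := conjInv_cell kap kap_conj a
  have hT := conjInv_cell kap kap_conj n
  rw [cnt_of_isConj _ _ hS hT (fineOf_spec z)]
  by_cases hk : pre (fineOf z) = fineOf z
  · rw [hk]
  · rw [rp_eq_inv _ hk, cnt_inv _ _ hT (cell_invClosed a) (cell_invClosed n)]

/-- the structure constants of the first class of involutions -/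
theorem cnt_A (n : Fin 21) (z : M24) : cnt (cell kap 1) (cell kap n) z = AcoarseT n (kap z) := by
  rw [cnt_eq_pre, cnt_A_rep _ (pre_chk2 _).1 n, (pre_chk2 _).2, ← kap_eq_cf]

/-- the class representative of a cell -/
def repOfCell : Fin 21 → Fin 26 := ![0, 1, 2, 3, 4, 5, 6, 7, 8, 9, 10, 11, 13, 14, 15, 16, 17, 18, 20, 22, 24]

theorem repOfCell_chk : ∀ k : Fin 26, pre k = repOfCell (cf k) := by decide

theorem cnt_eq_repOfCell (a n : Fin 21) (z : M24) :
    cnt (cell kap a) (cell kap n) z = cnt (cell kap a) (cell kap n) (rp (repOfCell (kap z))) := by
  rw [cnt_eq_pre, repOfCell_chk, ← kap_eq_cf]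

/-- a row of the structure constants from a column -/
theorem cnt_row (c : Fin 21) (kc : Fin 26) (hkc : ∀ k : Fin 26, cf k = c → k = kc) (col : Fin 21 → ℕ)
    (hcol : ∀ n, cnt (cell kap 2) (cell kap n) (rp kc) = col n) (z : M24) :
    cnt (cell kap 2) (cell kap c) z = csize c * col (kap z) / csize (kap z) := by
  have h := card_mul_cnt_eq (cell kap 2) (cell kap c) (cell kap (kap z)) (cell_invClosed 2) (col (kap z))
    (cnt (cell kap 2) (cell kap c) (rp (repOfCell (kap z)))) ?_ ?_
  · rw [card_cell, card_cell] at h
    rw [cnt_eq_repOfCell]
    exact (Nat.div_eq_of_eq_mul_right (csize_pos _) h.symm).symm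
  · intro y hy
    rw [mem_cell] at hy
    have hf : fineOf y = kc := hkc _ (by rw [← kap_eq_cf, hy])
    rw [cnt_of_isConj _ _ (conjInv_cell kap kap_conj 2) (conjInv_cell kap kap_conj _) (fineOf_spec y), hf, hcol]
  · intro z' hz'
    rw [mem_cell] at hz'
    rw [cnt_eq_repOfCell, hz']

theorem cf_two : ∀ k : Fin 26, cf k = 2 → k = 2 := by decide

theorem cf_seven : ∀ k : Fin 26, cf k = 7 → k = 7 := by decide

/-- the row of the identity -/
theorem cnt_cell_zero (a : Fin 21) (z : M24) :
    cnt (cell kap a) (cell kap 0) z = if kap z = a then 1 else 0 := by
  unfold cnt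
  have h : (cell kap a).filter (fun x => x⁻¹ * z ∈ cell kap 0) = if kap z = a then {z} else ∅ := by
    ext x
    rw [Finset.mem_filter, mem_cell, mem_cell, kap_eq_zero_iff, inv_mul_eq_one]
    split_ifs with hz
    · rw [Finset.mem_singleton]
      constructor
      · rintro ⟨_, h2⟩
        exact h2
      · rintro rfl
        exact ⟨hz, rfl⟩
    · simp only [Finset.notMem_empty, iff_false, not_and]
      rintro h1 rfl
      exact hz h1
  rw [h]
  split_ifs <;> simp

/-- the rows of the structure constants of the second class of involutions which are used -/
def selB : Fin 21 → Bool := fun n => decide (n = 0 ∨ n = 2 ∨ n = 7)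

/-- three rows of the structure constants of the second class of involutions -/
def BpartT (n n' : Fin 21) : ℕ :=
  if n = 0 then (if n' = 2 then 1 else 0)
  else if n = 2 then csize 2 * BcolT 0 n' / csize n'
  else if n = 7 then csize 7 * BcolT 1 n' / csize n'
  else 0

theorem cnt_B (n : Fin 21) (hn : selB n = true) (z : M24) :
    cnt (cell kap 2) (cell kap n) z = BpartT n (kap z) := by
  unfold selB at hn
  rw [decide_eq_true_eq] at hn
  rcases hn with rfl | rfl | rfl
  · rw [cnt_cell_zero]
    rfl
  · rw [cnt_row 2 2 cf_two (BcolT 0) cnt_B_rep2 z]
    rfl
  · rw [cnt_row 7 7 cf_seven (BcolT 1) cnt_B_rep7 z]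
    rfl

end Cfsg.Agent.Helper27.M24B
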