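import Cfsg.Agent.Helper27.M22B.Pack

/-!
More on packed counters: a sum of powers of the base is the packed list of the multiplicities of the exponents.
-/

set_option autoImplicit false

namespace Cfsg.Agent.Helper27.M24B

open Cfsg.Agent.Helper27.M22B

theorem pack_zeros (B : ℕ) {α : Type*} : ∀ l : List α, pack B (l.map (fun _ => 0)) = 0
  | [] => rfl
  | _ :: l => by
    rw [List.map_cons, pack, pack_zeros B l, Nat.mul_zero]

theorem pack_onehot (B : ℕ) : ∀ (N v : ℕ),
    pack B ((List.range N).map (fun n => if v = n then 1 else 0)) = if v < N then B ^ v else 0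
  | 0, v => by simp [pack]
  | N + 1, 0 => by
    rw [List.range_succ_eq_map, List.map_cons, List.map_map, pack]
    have h : ((fun n => if 0 = n then 1 else 0) ∘ Nat.succ) = fun _ : ℕ => 0 := by
      funext n
      simp
    rw [h, pack_zeros]
    simp
  | N + 1, v + 1 => by
    rw [List.range_succ_eq_map, List.map_cons, List.map_map, pack]
    have h : ((fun n => if v + 1 = n then 1 else 0) ∘ Nat.succ) = fun n : ℕ => if v = n then 1 else 0 := by
      funext n
      simp
    rw [h, pack_onehot B N v]
    by_cases hv : v < N
    · have hv' : v + 1 < N + 1 := by omega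
      rw [if_pos hv, if_pos hv', pow_succ]
      simp
      ring
    · have hv' : ¬ v + 1 < N + 1 := by omega
      rw [if_neg hv, if_neg hv']
      simp

theorem sum_indicator_eq_count {α : Type*} (h : α → ℕ) (n : ℕ) : ∀ xs : List α,
    (xs.map (fun x => if h x = n then 1 else 0)).sum = (xs.map h).count n
  | [] => rfl
  | x :: xs => by
    rw [List.map_cons, List.sum_cons, sum_indicator_eq_count h n xs, List.map_cons, List.count_cons]
    by_cases hx : h x = n
    · simp [hx]
      omega
    · simp [hx]

/-- a sum of powers of the base is the packed list of the multiplicities of the exponents -/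
theorem sum_pow_eq_pack (B N : ℕ) {α : Type*} (h : α → ℕ) (xs : List α) (hN : ∀ x ∈ xs, h x < N) :
    (xs.map (fun x => B ^ h x)).sum = pack B ((List.range N).map (fun n => (xs.map h).count n)) := by
  have h1 : xs.map (fun x => B ^ h x) =
      xs.map (fun x => pack B (((List.range N).map (fun n => fun x => if h x = n then 1 else 0)).map
        (fun f => f x))) := by
    apply List.map_congr_left
    intro x hx
    rw [List.map_map]
    have := pack_onehot B N (h x)
    rw [if_pos (hN x hx)] at this
    rw [← this]
    rfl
  rw [h1, pack_sum, List.map_map]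
  apply congrArg
  apply List.map_congr_left
  intro n _
  exact sum_indicator_eq_count h n xs

theorem pack_lt (B : ℕ) (hB : 0 < B) : ∀ l : List ℕ, (∀ a ∈ l, a < B) → pack B l < B ^ l.length
  | [], _ => by simp [pack]
  | a :: l, hl => by
    have ha : a < B := hl a (List.mem_cons_self ..)
    have ih := pack_lt B hB l (fun b hb => hl b (List.mem_cons_of_mem _ hb))
    rw [pack, List.length_cons, pow_succ]
    have h1 : pack B l + 1 ≤ B ^ l.length := ih
    have h2 : B * (pack B l + 1) ≤ B * B ^ l.length := Nat.mul_le_mul_left B h1
    calc a + B * pack B l < B + B * pack B l := by omega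
      _ = B * (pack B l + 1) := by ring
      _ ≤ B * B ^ l.length := h2
      _ = B ^ l.length * B := by ring

end Cfsg.Agent.Helper27.M24B
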