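import Cfsg.Agent.Helper27.M24B.Cover
import Cfsg.Agent.Helper27.M24B.PackMore

/-!
From a checked list of packed indices to the corresponding list of elements of `M24`: the list exhausts a cell, and
the structure constants of this cell at a class representative are digits of the packed counts.
-/

set_option autoImplicit false
set_option maxRecDepth 100000

namespace Cfsg.Agent.Helper27.M24B

open Cfsg Cfsg.Agent.Helper7 Cfsg.Agent.Helper27.FusCode Cfsg.Agent.Helper27.FusTab Cfsg.Agent.Helper27.M22B
  Cfsg.Agent.Helper27.ClassAlg

theorem forall₂_map_eq' {α β γ : Type*} {R : α → β → Prop} (f : α → γ) (g : β → γ) :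
    ∀ {l : List α} {l' : List β}, List.Forall₂ R l l' → (∀ a b, R a b → a ∈ l → f a = g b) →
      l.map f = l'.map g := by
  intro l l' h
  induction h with
  | nil => intro _; rfl
  | cons hab _ ih =>
    intro hfg
    rw [List.map_cons, List.map_cons, hfg _ _ hab (List.mem_cons_self ..),
      ih (fun a b hR ha => hfg a b hR (List.mem_cons_of_mem _ ha))]

theorem exists_of_forall₂_mem_right' {α β : Type*} {R : α → β → Prop} {l : List α} {l' : List β}
    (h : List.Forall₂ R l l') {b : β} (hb : b ∈ l') : ∃ a ∈ l, R a b := by
  induction h with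
  | nil => simp at hb
  | cons hab _ ih =>
    rw [List.mem_cons] at hb
    rcases hb with rfl | hb
    · exact ⟨_, List.mem_cons_self .., hab⟩
    · obtain ⟨a, ha, hR⟩ := ih hb
      exact ⟨a, List.mem_cons_of_mem _ ha, hR⟩

theorem forall₂_nodup' {α β γ : Type*} {R : α → β → Prop} (f : α → γ)
    (hR : ∀ a a' b, R a b → R a' b → f a = f a') :
    ∀ {l : List α} {l' : List β}, List.Forall₂ R l l' → (l.map f).Nodup → l'.Nodup := by
  intro l l' h
  induction h with
  | nil => intro _; exact List.nodup_nil
  | cons hab hrest ih =>
    intro hnd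
    rw [List.map_cons, List.nodup_cons] at hnd
    rw [List.nodup_cons]
    refine ⟨?_, ih hnd.2⟩
    intro hb
    obtain ⟨a', ha', hR'⟩ := exists_of_forall₂_mem_right' hrest hb
    apply hnd.1
    rw [hR _ _ _ hab hR']
    exact List.mem_map.mpr ⟨a', ha', rfl⟩

/-- the relation between a packed index and an element -/
def ElRel (i : ℕ) (x : M24) : Prop := IsCode (codeAt24 i) x.1

theorem exists_els (d : List ℕ) : ∃ els : List M24, List.Forall₂ ElRel d els := by
  apply forall₂_of_forall_exists
  intro i _
  obtain ⟨g, hg, hc⟩ := coded_codeAt24 i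
  exact ⟨⟨g, hg⟩, hc⟩

/-- the elements with the given packed indices -/
noncomputable def elsOf (d : List ℕ) : List M24 := Classical.choose (exists_els d)

theorem elsOf_spec (d : List ℕ) : List.Forall₂ ElRel d (elsOf d) := Classical.choose_spec (exists_els d)

theorem elsOf_length (d : List ℕ) : (elsOf d).length = d.length := (elsOf_spec d).length_eq.symm

section

variable {want lo hi : ℕ} {d : List ℕ}

theorem elsOf_nodup (h : ChunkGood want lo hi d) : (elsOf d).Nodup := by
  apply forall₂_nodup' codeAt24 _ (elsOf_spec d)
  · exact h.sorted.imp (fun hab => ne_of_lt hab)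
  · intro a a' b hab ha'b
    exact isCode_unique hab ha'b (norm_codeAt24 _) (norm_codeAt24 _)

theorem elsOf_kap (h : ChunkGood want lo hi d) {x : M24} (hx : x ∈ elsOf d) : (kap x).1 = want := by
  obtain ⟨i, hi, hR⟩ := exists_of_forall₂_mem_right' (elsOf_spec d) hx
  rw [kap_of_code hR]
  exact h.cells i hi

/-- the list exhausts its cell -/
theorem cell_eq_of_good (h : ChunkGood want lo hi d) (a : Fin 21) (ha : a.1 = want)
    (hlen : d.length = csize a) : cell kap a = (elsOf d).toFinset := by
  symm
  apply Finset.eq_of_subset_of_card_le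
  · intro x hx
    rw [List.mem_toFinset] at hx
    rw [mem_cell]
    apply Fin.ext
    rw [elsOf_kap h hx, ha]
  · rw [card_cell, List.toFinset_card_of_nodup (elsOf_nodup h), elsOf_length, hlen]

theorem inv_eq_self_of_cell {a : Fin 21} (h2 : ordCell a = 2) {x : M24} (hx : kap x = a) : x⁻¹ = x := by
  have ho : orderOf x = 2 := by rw [orderOf_eq_ordCell, hx, h2]
  have hx2 : x ^ 2 = 1 := by
    rw [← ho]
    exact pow_orderOf_eq_one x
  rw [pow_two] at hx2
  exact inv_eq_of_mul_eq_one_left hx2

/-- the structure constants of the cell at an element with a code -/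
theorem cnt_eq_count (h : ChunkGood want lo hi d) (a : Fin 21) (ha : a.1 = want) (hlen : d.length = csize a)
    (h2 : ordCell a = 2) (r : M24) (R : ℕ) (hR : IsCode R r.1) (n : Fin 21) :
    cnt (cell kap a) (cell kap n) r = (d.map (fun i => cellP (codeAt24 i) R)).count n.1 := by
  classical
  have hmap : d.map (fun i => cellP (codeAt24 i) R) = (elsOf d).map (fun x => (kap (x⁻¹ * r)).1) := by
    apply forall₂_map_eq' _ _ (elsOf_spec d)
    intro i x hix _
    have hxa : kap x = a := by
      apply Fin.ext
      rw [ha]
      obtain ⟨l', hl'⟩ : ∃ l', l' = elsOf d := ⟨_, rfl⟩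
      have hx : x ∈ elsOf d := by
        obtain ⟨b, hb, hRb⟩ := exists_of_forall₂_mem (elsOf_spec d) ‹i ∈ d›
        have : b = x := by
          apply Subtype.ext
          exact isCode_inj hRb hix
        rw [← this]
        exact hb
      exact elsOf_kap h hx
    rw [inv_eq_self_of_cell h2 hxa]
    have hy : IsCode (compU (codeAt24 i) R) (x * r).1 := isCode_mul hix hR
    rw [kap_of_code hy, cellP_eq]
  unfold cnt
  rw [cell_eq_of_good h a ha hlen, hmap]
  have h1 : ((elsOf d).toFinset.filter (fun x => x⁻¹ * r ∈ cell kap n)) =
      ((elsOf d).filter (fun x => decide (kap (x⁻¹ * r) = n))).toFinset := by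
    ext x
    simp only [Finset.mem_filter, List.mem_toFinset, List.mem_filter, mem_cell, decide_eq_true_eq]
  rw [h1, List.toFinset_card_of_nodup ((elsOf_nodup h).filter _), List.count_eq_countP, List.countP_map,
    List.countP_eq_length_filter]
  congr 1
  apply List.filter_congr
  intro x _
  simp only [Function.comp_apply]
  rw [Bool.eq_iff_iff, decide_eq_true_eq, beq_iff_eq, Fin.ext_iff]

end

/-- the multiplicities of the cells are digits of the packed counts -/
theorem count_eq_digit (d reps : List ℕ) (contrib : ℕ → ℕ)
    (hcontrib : ∀ i, contrib i = pack WW (reps.map (fun r => BB ^ cellP (codeAt24 i) r))) (T : ℕ)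
    (hT : (d.map contrib).sum = T) (hlen : d.length < BB) (j : ℕ) (hj : j < reps.length) (n : ℕ)
    (hn : n < 21) :
    (d.map (fun i => cellP (codeAt24 i) (reps[j]))).count n = T / WW ^ j % WW / BB ^ n % BB := by
  have hBB : 0 < BB := by decide
  have hWW : 0 < WW := by decide
  have h1 : d.map contrib =
      d.map (fun i => pack WW ((reps.map (fun r => fun i => BB ^ cellP (codeAt24 i) r)).map (fun f => f i))) := by
    apply List.map_congr_left
    intro i _
    rw [hcontrib i, List.map_map]
    rfl
  rw [h1, pack_sum, List.map_map] at hT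
  have hinner : ∀ r, (d.map (fun i => BB ^ cellP (codeAt24 i) r)).sum =
      pack BB ((List.range 21).map (fun n => (d.map (fun i => cellP (codeAt24 i) r)).count n)) := by
    intro r
    exact sum_pow_eq_pack BB 21 (fun i => cellP (codeAt24 i) r) d (fun i _ => cellP_lt _ _)
  have hcount_lt : ∀ r n, (d.map (fun i => cellP (codeAt24 i) r)).count n < BB := by
    intro r n
    refine lt_of_le_of_lt (List.count_le_length) ?_
    rw [List.length_map]
    exact hlen
  have hinner_lt : ∀ r, (d.map (fun i => BB ^ cellP (codeAt24 i) r)).sum < WW := by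
    intro r
    rw [hinner r, WW_eq]
    have := pack_lt BB hBB ((List.range 21).map (fun n => (d.map (fun i => cellP (codeAt24 i) r)).count n))
      (by
        intro a ha
        obtain ⟨n, _, rfl⟩ := List.mem_map.mp ha
        exact hcount_lt r n)
    simpa using this
  have hdig := pack_digit WW hWW
    (reps.map ((fun f : ℕ → ℕ => (d.map f).sum) ∘ fun r => fun i => BB ^ cellP (codeAt24 i) r))
    (by
      intro a ha
      obtain ⟨r, _, rfl⟩ := List.mem_map.mp ha
      exact hinner_lt r) j (by simpa using hj)
  rw [hT, List.getElem_map] at hdig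
  simp only [Function.comp_apply] at hdig
  rw [← hdig, hinner]
  have hdig2 := pack_digit BB hBB
    ((List.range 21).map (fun n => (d.map (fun i => cellP (codeAt24 i) (reps[j]))).count n))
    (by
      intro a ha
      obtain ⟨n, _, rfl⟩ := List.mem_map.mp ha
      exact hcount_lt _ n) n (by simpa using hn)
  rw [List.getElem_map, List.getElem_range] at hdig2
  exact hdig2

end Cfsg.Agent.Helper27.M24B
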