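import Cfsg.Agent.Helper27.M24B.Prune

/-!
A conjugation invariant of the elements of `M24` which determines the cycle type: the numbers of points moved by
the third, fourth and sixth power, packed into one number; its computation from a code; the resulting function
into the twenty-one cells.
-/

set_option autoImplicit false
set_option maxRecDepth 100000

namespace Cfsg.Agent.Helper27.M24B

open Cfsg Cfsg.Agent.Helper7 Cfsg.Agent.Helper27.FusCode Cfsg.Agent.Helper27.FusTab Cfsg.Agent.Helper27.M22B
  Cfsg.Agent.Helper27.CodeEnum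

theorem sum_map_b2n (p : ℕ → Bool) : ∀ l : List ℕ, (l.map (fun i => b2n (p i))).sum = (l.filter p).length
  | [] => rfl
  | a :: l => by
    rw [List.map_cons, List.sum_cons, sum_map_b2n p l, List.filter_cons]
    cases h : p a
    · simp [b2n]
    · simp [b2n]
      omega

/-- the number of points moved, as a sum -/
theorem suppcnt_eq_sum (z : ℕ) : suppcnt z = (r24.map (fun i => b2n (!(Nat.beq (nthN z i) i)))).sum := by
  unfold suppcnt
  rw [sum_map_b2n]

/-- `1` if the two numbers are different, `0` otherwise -/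
def neN (a i : ℕ) : ℕ := Nat.sub 1 (Nat.sub 1 (Nat.add (Nat.sub a i) (Nat.sub i a)))

theorem neN_eq (a i : ℕ) : neN a i = b2n (!(Nat.beq a i)) := by
  unfold neN
  show 1 - (1 - ((a - i) + (i - a))) = _
  by_cases h : a = i
  · rw [h, Nat.beq_refl]
    simp [b2n]
  · have hb : Nat.beq a i = false := by
      cases hb : Nat.beq a i
      · rfl
      · exact absurd (Nat.eq_of_beq_eq_true hb) h
    rw [hb]
    simp only [Bool.not_false, b2n]
    omega

/-- the contribution of the point `i` to the packed invariant of the permutation coded by `y` -/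
def step6 (y i : ℕ) : ℕ :=
  forceNat (fun a3 => forceNat (fun a4 => forceNat (fun a6 =>
    Nat.add (neN a3 i) (Nat.mul 32 (Nat.add (neN a4 i) (Nat.mul 32 (neN a6 i)))))
    (nthN y (nthN y a4))) (nthN y a3)) (nthN y (nthN y (nthN y i)))

/-- the packed invariant computed from a code -/
def labU (y : ℕ) : ℕ :=
  Nat.add (step6 y 0) (Nat.add (step6 y 1) (Nat.add (step6 y 2) (Nat.add (step6 y 3) (Nat.add (step6 y 4) (Nat.add (step6 y 5) (Nat.add (step6 y 6) (Nat.add (step6 y 7) (Nat.add (step6 y 8) (Nat.add (step6 y 9) (Nat.add (step6 y 10) (Nat.add (step6 y 11) (Nat.add (step6 y 12) (Nat.add (step6 y 13) (Nat.add (step6 y 14) (Nat.add (step6 y 15) (Nat.add (step6 y 16) (Nat.add (step6 y 17) (Nat.add (step6 y 18) (Nat.add (step6 y 19) (Nat.add (step6 y 20) (Nat.add (step6 y 21) (Nat.add (step6 y 22) (Nat.add (step6 y 23) 0)))))))))))))))))))))))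

section

attribute [local irreducible] step6

theorem labU_eq_sum (y : ℕ) : labU y = (r24.map (step6 y)).sum := by
  unfold labU
  simp only [r24, List.map_cons, List.map_nil, List.sum_cons, List.sum_nil]
  rfl

end

/-- the packed invariant of a permutation -/
def invP (g : Equiv.Perm GolayPt) : ℕ :=
  (g ^ 3).support.card + 32 * ((g ^ 4).support.card + 32 * (g ^ 6).support.card)

theorem step6_eq {y : ℕ} {g : Equiv.Perm GolayPt} (h : IsCode y g) (i : ℕ) (hi : i < 24) :
    step6 y i = b2n (!(Nat.beq (nthN (compU (compU y y) y) i) i)) +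
      32 * (b2n (!(Nat.beq (nthN (compU (compU (compU y y) y) y) i) i)) +
        32 * b2n (!(Nat.beq (nthN (compU (compU (compU y y) y) (compU (compU y y) y)) i) i))) := by
  have l1 := nthN_lt24 h i hi
  have l2 := nthN_lt24 h _ l1
  have l3 := nthN_lt24 h _ l2
  have l4 := nthN_lt24 h _ l3
  have l5 := nthN_lt24 h _ l4
  have e3 : ∀ j, j < 24 → nthN (compU (compU y y) y) j = nthN y (nthN y (nthN y j)) := by
    intro j hj
    rw [nthN_compU _ _ _ hj, nthN_compU _ _ _ (nthN_lt24 h j hj)]
  have e4 : nthN (compU (compU (compU y y) y) y) i = nthN y (nthN y (nthN y (nthN y i))) := by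
    rw [nthN_compU _ _ _ hi, e3 _ l1]
  have e6 : nthN (compU (compU (compU y y) y) (compU (compU y y) y)) i =
      nthN y (nthN y (nthN y (nthN y (nthN y (nthN y i))))) := by
    rw [nthN_compU _ _ _ hi, e3 i hi, e3 _ l3]
  rw [e3 i hi, e4, e6]
  unfold step6
  simp only [forceNat_eq, neN_eq]
  rfl

theorem labU_eq {y : ℕ} {g : Equiv.Perm GolayPt} (h : IsCode y g) : labU y = invP g := by
  have c3 := isCode_mul (isCode_mul h h) h
  have c4 := isCode_mul c3 h
  have c6 := isCode_mul c3 c3
  have e3 : g * g * g = g ^ 3 := by simp only [pow_succ, pow_zero, one_mul]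
  have e4 : g * g * g * g = g ^ 4 := by simp only [pow_succ, pow_zero, one_mul]
  have e6 : g * g * g * (g * g * g) = g ^ 6 := by simp only [pow_succ, pow_zero, one_mul, mul_assoc]
  rw [e3] at c3
  rw [e4] at c4
  rw [e6] at c6
  unfold invP
  rw [support_card_of_isCode c3, support_card_of_isCode c4, support_card_of_isCode c6, suppcnt_eq_sum,
    suppcnt_eq_sum, suppcnt_eq_sum, ← sum_add_mul, ← sum_add_mul, labU_eq_sum]
  apply congrArg List.sum
  apply List.map_congr_left
  intro i hi
  exact step6_eq h i (mem_r24.mp hi)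

theorem invP_conj (g h : Equiv.Perm GolayPt) : invP (h * g * h⁻¹) = invP g := by
  unfold invP
  simp only [conj_pow, Equiv.Perm.card_support_conj]

theorem invP_inv (g : Equiv.Perm GolayPt) : invP g⁻¹ = invP g := by
  unfold invP
  simp only [inv_pow, Equiv.Perm.support_inv]

/-- the cells belonging to the values of the invariant modulo `51`, as digits in base `32` -/
def tabN : ℕ := 791547485020716179899474657622327262455501024468646603463105271715265130976

/-- the cell of a value of the invariant -/
def cellOf (v : ℕ) : ℕ := nthN tabN (Nat.mod v 51)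

theorem cellOf_lt (v : ℕ) : cellOf v < 21 := by
  unfold cellOf
  have h : ∀ j, j < 51 → nthN tabN j < 21 := by decide +kernel
  exact h _ (Nat.mod_lt _ (by norm_num))

/-- the cell of an element of `M24` -/
noncomputable def kap (g : M24) : Fin 21 := ⟨cellOf (invP g.1), cellOf_lt _⟩

theorem kap_conj (g h : M24) : kap (h * g * h⁻¹) = kap g := by
  unfold kap
  apply Fin.ext
  show cellOf (invP (h.1 * g.1 * h.1⁻¹)) = cellOf (invP g.1)
  rw [invP_conj]

theorem kap_inv (g : M24) : kap g⁻¹ = kap g := by
  unfold kap
  apply Fin.ext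
  show cellOf (invP (g.1⁻¹)) = cellOf (invP g.1)
  rw [invP_inv]

theorem kap_of_code {y : ℕ} {g : M24} (h : IsCode y g.1) : (kap g).1 = cellOf (labU y) := by
  unfold kap
  rw [labU_eq h]

end Cfsg.Agent.Helper27.M24B
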