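import Cfsg.Agent.Helper27.M22B.Spec

/-!
The levels of the stabiliser chain of `M24` as lists of codes, and the resulting enumeration of `M24`: every element
is a product of one element from each of seven lists.
-/

set_option autoImplicit false
set_option maxRecDepth 1000000

namespace Cfsg.Agent.Helper27.M24B

open Cfsg Cfsg.Agent.Helper7 Cfsg.Agent.Helper27.FusCode Cfsg.Agent.Helper27.FusTab Cfsg.Agent.Helper27.M22B

/-- codes of the transversal of the stabiliser of the point `0` in `M24` -/
def LA : List ℕ := [
  984818244535754528103549039458486304, 956302485175575353788796878166559809, 956709441910203461498593497208492130, 958020233522794296771657265635857539,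
  956085195133363055212480936219446308, 957425142709759139735883430963155013, 978766510459594708251448298497017958, 980106457146221389564379418514361479,
  748631715968774217324450783055548840, 29128872078062367489448666720552297, 963716496262025890856626474012726794, 29492376736006929088146330296305131,
  42474427424899072460790245135567372, 85312185050366474671588816010464813, 30596650610690344108468126695669358, 15200453133970992512463437727114799,
  57144517086277493021102530699602512, 30038786321973151969200033103462097, 955976305995358692400003018625453266, 957316225099133873385554888546685171,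
  958656172675529957934853081123656980, 943714182190459353178517000962980181, 29911808450092068199315215539027318, 1795248432537898728475572672376535
]

/-- codes of the second level (the points `0`, `1`) -/
def LB : List ℕ := [
  984818244535754528103549039458486304, 336958614913504255900116963716999232, 667673598320905700411408996309080160, 676711314055561466844309852072985728,
  149750715282216267457415564908102816, 924400583262298126745880701099494592, 552463307131536855092542581155532000, 770596047849642140905095506187140352,
  337018146253156922474476109522416928, 85317406679367551189737327966866752, 603835582923932173796093103173017952, 806402568829933242859414998795965824,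
  772951556706303053997514480730969504, 935024925236043019909986836226383296, 935168089356675033837168659941372384, 227618434468999317456177396875631104,
  962183670556568936218351080409846304, 99479564938632758205392911281066560, 924529770467819117204262301515241056, 518041552592840792033366262803612288,
  147425429447408259152880452210768544, 552018838467281923207964139623496384, 518833478546483074581479208190527200
]

/-- codes of the fifth level (the points `0`, ..., `4`) -/
def L5 : List ℕ := [
  984818244535754528103549039458486304, 483673760568805975520106682392872992, 315657218415135631115709993365637152, 483834684003741399461633384397244448,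
  184720237130341263748001489676765216, 213544160926945911900985900301125664, 879051808069191338180977553861347360, 806336247480013169386007080861796384,
  735457312421301346770266117170628640, 919385364891865897850060744640530464, 836751698788145288111536649279735840, 516055110103282892780838417587079200,
  183602969205897296383399042740226080, 855885015625602177143191301715494944, 379667347255809957931912351881201696, 595352368750207674055713569656375328,
  340516511567394406958682767605467168, 316338970488607325687937981419194400, 694767142803082268102380795044399136, 561222287620571961430815999540693024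
]

/-- codes of the sixth level (the points `0`, ..., `5`) -/
def L6 : List ℕ := [
  984818244535754528103549039458486304, 479663310730678034207776437455390752, 695226755442639250267515720785037344, 484779504598900739471956968959215648,
  935448248327800417350548951748675616, 839189432063784999460430720348031008, 720981692062171673584743151055243296, 796272651614488101787381665936541728,
  812852730107173232200347929486133280, 233256162770680474255234529480509472, 886929711944160005978619293296855072, 341050705022823791076430286248052768,
  754655545202909480824058658477410336, 570109986616782138932769284593649696, 275888336415583309645661167182514208, 220213109803259289183002082616117280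
]

/-- codes of the seventh level (the points `0`, ..., `5`, `7`) -/
def L7 : List ℕ := [
  984818244535754528103549039458486304, 725895487971383339971559185675552800, 608167165260361641911015062699608096
]

/-- the seven lists of codes -/
def lev7 : List (List ℕ) := [LA, LB, topC, sndC, L5, L6, L7]

theorem levels_T : m24Levels.map (fun L => L.T) = lev7.map (fun L => L.map dec) := by decide +kernel

/-- products of one table from each list -/
def prodT : List (List (List ℕ)) → List (List ℕ)
  | [] => [idT]
  | T :: Ts => T.flatMap (fun l => (prodT Ts).map (compT l))

theorem prodTables_eq_prodT : ∀ Ls : List Level, prodTables Ls = prodT (Ls.map (fun L => L.T))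
  | [] => rfl
  | L :: Ls => by
    rw [prodTables, List.map_cons, prodT, prodTables_eq_prodT Ls]

theorem lev7_tabled : ∀ L ∈ lev7, ∀ c ∈ L, Tabled M24 (dec c) := by
  intro L hL c hc
  have h1 : L.map dec ∈ m24Levels.map (fun L => L.T) := by
    rw [levels_T]
    exact List.mem_map.mpr ⟨L, hL, rfl⟩
  obtain ⟨L0, hL0, hT⟩ := List.mem_map.mp h1
  apply tabled_m24Levels L0 hL0
  rw [hT]
  exact List.mem_map.mpr ⟨c, hc, rfl⟩

theorem lev7_coded (L : List ℕ) (hL : L ∈ lev7) (c : ℕ) (hc : c ∈ L) : ∃ g ∈ M24, IsCode c g :=
  lev7_tabled L hL c hc

/-- every element of `M24` is a product of one element from each of the seven lists -/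
theorem sift24 : ∀ g ∈ M24, ∃ a ∈ LA, ∃ b ∈ LB, ∃ t ∈ topC, ∃ u ∈ sndC, ∃ f ∈ L5, ∃ s ∈ L6, ∃ w ∈ L7,
    IsCode (compU (compU (compU (compU (compU (compU (compU idc a) b) t) u) f) s) w) g := by
  intro g hg
  have hg' : g ∈ fixG M24 [] := by
    rw [fixG_nil]
    exact hg
  obtain ⟨l, hl, hlt⟩ := chain_sift tabled_m24Levels m24_chainOK m24_bounds g hg'
  rw [prodTables_eq_prodT, levels_T] at hl
  simp only [lev7, List.map_cons, List.map_nil, prodT, List.mem_flatMap, List.mem_map,
    List.mem_singleton] at hl
  obtain ⟨_, ⟨a, ha, rfl⟩, _, ⟨_, ⟨b, hb, rfl⟩, _, ⟨_, ⟨t, ht, rfl⟩, _, ⟨_, ⟨u, hu, rfl⟩, _, ⟨_, ⟨f, hf, rfl⟩, _,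
    ⟨_, ⟨s, hs, rfl⟩, _, ⟨_, ⟨w, hw, rfl⟩, rfl, rfl⟩, rfl⟩, rfl⟩, rfl⟩, rfl⟩, rfl⟩, rfl⟩ := hl
  obtain ⟨ga, _, hga⟩ := lev7_coded LA (by simp [lev7]) a ha
  obtain ⟨gb, _, hgb⟩ := lev7_coded LB (by simp [lev7]) b hb
  obtain ⟨gt, _, hgt⟩ := lev7_coded topC (by simp [lev7]) t ht
  obtain ⟨gu, _, hgu⟩ := lev7_coded sndC (by simp [lev7]) u hu
  obtain ⟨gf, _, hgf⟩ := lev7_coded L5 (by simp [lev7]) f hf
  obtain ⟨gs, _, hgs⟩ := lev7_coded L6 (by simp [lev7]) s hs
  obtain ⟨gw, _, hgw⟩ := lev7_coded L7 (by simp [lev7]) w hw
  have h1 : IsTable (compT (dec a) (compT (dec b) (compT (dec t) (compT (dec u) (compT (dec f)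
      (compT (dec s) (compT (dec w) idT)))))))
      (ga * (gb * (gt * (gu * (gf * (gs * (gw * 1))))))) :=
    hga.mul (hgb.mul (hgt.mul (hgu.mul (hgf.mul (hgs.mul (hgw.mul isTable_one))))))
  have e : g = ga * (gb * (gt * (gu * (gf * (gs * (gw * 1)))))) := hlt.inj h1
  refine ⟨a, ha, b, hb, t, ht, u, hu, f, hf, s, hs, w, hw, ?_⟩
  have h2 := isCode_mul (isCode_mul (isCode_mul (isCode_mul (isCode_mul (isCode_mul (isCode_mul isCode_idc hga) hgb)
    hgt) hgu) hgf) hgs) hgw
  rw [e]
  convert h2 using 1
  group

/-- the elements of the later lists fix the earlier base points -/
theorem LB_fix : ∀ x ∈ LB, ∀ i < 1, nthN x i = i := by decide +kernel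

theorem topC_fix : ∀ x ∈ topC, ∀ i < 2, nthN x i = i := by decide +kernel

theorem sndC_fix : ∀ x ∈ sndC, ∀ i < 3, nthN x i = i := by decide +kernel

theorem L5_fix : ∀ x ∈ L5, ∀ i < 4, nthN x i = i := by decide +kernel

theorem L6_fix : ∀ x ∈ L6, ∀ i < 5, nthN x i = i := by decide +kernel

theorem L7_fix : ∀ x ∈ L7, ∀ i < 6, nthN x i = i := by decide +kernel

end Cfsg.Agent.Helper27.M24B
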