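import Cfsg.Agent.Helper27.M24B.Cert
import Cfsg.Agent.Helper27.BlockTransport

/-!
All irreducible characters of `M24` lie in one `2`-block.
-/

set_option autoImplicit false

namespace Cfsg.Agent.Helper27.M24B

open Cfsg Cfsg.Agent.Helper27.ClassAlg

theorem cnt_A' (n : Fin 21) (z : M24) : cnt (cell kap 1) (cell kap n) z = Acoarse n (kap z) := by
  rw [cnt_A, Acoarse_eq]

theorem cnt_B' (n : Fin 21) (hn : selB n = true) (z : M24) :
    cnt (cell kap 2) (cell kap n) z = Bpart n (kap z) := by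
  rw [cnt_B n hn, Bpart_eq]

/-- no irreducible character of `M24` sums to zero over the elements of odd order -/
theorem sum_odd_ne_zero (χ : IrrCharacter M24) :
    ∑ᶠ x ∈ {x : M24 | ¬ 2 ∣ orderOf x}, (χ : M24 → ℂ) x ≠ 0 := by
  obtain ⟨n, ρ, hρ, hχ⟩ := χ.2
  haveI := hρ
  have hset : {x : M24 | ¬ 2 ∣ orderOf x} = ↑(selCells kap oddCell) := by
    ext x
    rw [Set.mem_setOf_eq, Finset.mem_coe, selCells, Finset.mem_filter, odd_iff_kap]
    exact ⟨fun h => ⟨Finset.mem_univ _, h⟩, fun h => h.2⟩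
  rw [hset, finsum_mem_coe_finset, ← hχ]
  exact sum_sel_ne_zero_two ρ kap kap_conj 0 kap_eq_zero_iff oddCell 1 2 Acoarse cnt_A' selB Bpart cnt_B'
    21 fvec fvec_zero kindv (fun i => i.castSucc) (fun i => le_of_eq rfl) dvec cmbv fvec_step Dval Dval_ne
    zvec cert

/-- all irreducible characters of `M24` lie in one `2`-block -/
theorem sameBlock_M24 (M : Ideal AlgInt) (hM : IsPModular 2 M) (χ ψ : IrrCharacter M24) :
    SameBlock M (χ : M24 → ℂ) (ψ : M24 → ℂ) :=
  BlockTransport.sameBlock_of_sum_ne_zero M hM sum_odd_ne_zero χ ψ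

end Cfsg.Agent.Helper27.M24B
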