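import Cfsg.Agent.Helper27.M24B.Levels

/-!
A pruned census through the stabiliser chain of `M24`: an upper bound for the number of `g` with
`g * r = r' * g`. If the later factors of `g = a * b * t * u * l` fix the points below `j`, the images under `g`
of the points below `j` are those under the partial product, so that the equation can be tested early.
-/

set_option autoImplicit false

namespace Cfsg.Agent.Helper27.M24B

open Cfsg Cfsg.Agent.Helper7 Cfsg.Agent.Helper27.FusCode Cfsg.Agent.Helper27.FusTab Cfsg.Agent.Helper27.M22B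

/-- codes reachable from the prefix `p` by multiplying with one element of each list -/
def ExtL : List (List ℕ) → ℕ → ℕ → Prop
  | [], p, c => c = p
  | L :: Ls, p, c => ∃ x ∈ L, ExtL Ls (compU p x) c

theorem extL_nthN (m : ℕ) (hm : m ≤ 24) : ∀ (Ls : List (List ℕ)) (q c : ℕ),
    (∀ L ∈ Ls, ∀ x ∈ L, ∀ i < m, nthN x i = i) → ExtL Ls q c → ∀ i < m, nthN c i = nthN q i
  | [], q, c, _, h, i, _ => by
    have e : c = q := h
    rw [e]
  | L :: Ls, q, c, hfix, h, i, hi => by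
    obtain ⟨x, hx, hc⟩ := h
    rw [extL_nthN m hm Ls (compU q x) c (fun L' hL' => hfix L' (List.mem_cons_of_mem _ hL')) hc i hi,
      nthN_compU _ _ _ (by omega), hfix L (List.mem_cons_self ..) x hx i hi]

/-- necessary condition at the point `i` on the product `p * x` when all later factors fix the points below `j` -/
def testI (R R' j p x i : ℕ) : Bool :=
  !(Nat.blt i j && Nat.blt (nthN R i) j) ||
    Nat.beq (nthN p (nthN x (nthN R i))) (nthN R' (nthN p (nthN x i)))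

/-- the test on the level `j`: the new point `j - 1` and the point `RI (j - 1)` (meant to be its preimage) -/
def chkQ (R R' RI j p x : ℕ) : Bool :=
  testI R R' j p x (Nat.pred j) && testI R R' j p x (nthN RI (Nat.pred j))

/-- the order in which the points are tested on the last level -/
def lastOrder : List ℕ := [6, 7, 8, 9, 10, 11, 12, 13, 14, 15, 16, 17, 18, 19, 20, 21, 22, 23, 0, 1, 2, 3, 4, 5]

/-- the test on the last level: all points -/
def chkL (R R' p x : ℕ) : Bool := lastOrder.all (fun i => testI R R' 24 p x i)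

/-- one level of the census -/
def PSstep (chk : ℕ → ℕ → Bool) (F : ℕ → ℕ) (L : List ℕ) (p : ℕ) : ℕ :=
  ssum (fun x => cond (chk p x) (forceNat F (compU p x)) 0) L 0

def PS6 (R R' p : ℕ) : ℕ := PSstep (chkL R R') (fun _ => 1) L7 p

def PS5 (R R' RI p : ℕ) : ℕ := PSstep (chkQ R R' RI 6) (PS6 R R') L6 p

def PS4 (R R' RI p : ℕ) : ℕ := PSstep (chkQ R R' RI 5) (PS5 R R' RI) L5 p

def PS3 (R R' RI p : ℕ) : ℕ := PSstep (chkQ R R' RI 4) (PS4 R R' RI) sndC p

def PS2 (R R' RI p : ℕ) : ℕ := PSstep (chkQ R R' RI 3) (PS3 R R' RI) topC p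

def PS1 (R R' RI p : ℕ) : ℕ := PSstep (chkQ R R' RI 2) (PS2 R R' RI) LB p

/-- the contribution of the element `a` of the first level -/
def PSa (R R' RI a : ℕ) : ℕ := cond (chkQ R R' RI 1 idc a) (forceNat (PS1 R R' RI) (compU idc a)) 0

/-- the pruned census: an upper bound for the number of `g` with `g * r = r' * g` -/
def PS0 (R R' RI : ℕ) : ℕ := ssum (PSa R R' RI) LA 0

theorem PS0_eq (R R' RI : ℕ) : PS0 R R' RI = PSstep (chkQ R R' RI 1) (PS1 R R' RI) LA idc := rfl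

theorem PS0_eq_sum (R R' RI : ℕ) : PS0 R R' RI = (LA.map (PSa R R' RI)).sum := by
  unfold PS0
  rw [ssum_eq, Nat.zero_add]

section

variable {r r' : Equiv.Perm GolayPt} {R R' : ℕ}

/-- the elements `g` of `M24` with `g * r = r' * g` which have a code with the property `X` -/
def SX (r r' : Equiv.Perm GolayPt) (X : ℕ → Prop) : Set (Equiv.Perm GolayPt) :=
  {g | g ∈ M24 ∧ g * r = r' * g ∧ ∃ c, X c ∧ IsCode c g}

theorem semi_pointwise (hR : IsCode R r) (hR' : IsCode R' r') {g : Equiv.Perm GolayPt} {c : ℕ}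
    (hc : IsCode c g) (h : g * r = r' * g) (i : ℕ) (hi : i < 24) :
    nthN c (nthN R i) = nthN R' (nthN c i) := by
  have h2 := (compU_eq_compU_iff hc hR hR' hc).mpr h
  have h3 := congrArg (fun c => nthN c i) h2
  simp only [nthN_compU _ _ _ hi] at h3
  exact h3

theorem ncard_exists_le (Y : ℕ → ℕ → Prop) : ∀ L : List ℕ,
    (SX r r' (fun c => ∃ x ∈ L, Y x c)).ncard ≤ (L.map (fun x => (SX r r' (Y x)).ncard)).sum
  | [] => by
    have : SX r r' (fun c => ∃ x ∈ ([] : List ℕ), Y x c) = ∅ := by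
      ext g
      simp [SX]
    rw [this]
    simp
  | x :: xs => by
    have hsub : SX r r' (fun c => ∃ y ∈ x :: xs, Y y c) ⊆
        SX r r' (Y x) ∪ SX r r' (fun c => ∃ y ∈ xs, Y y c) := by
      rintro g ⟨hg, hs, c, ⟨y, hy, hyc⟩, hc⟩
      rcases List.mem_cons.mp hy with rfl | hy
      · exact Or.inl ⟨hg, hs, c, hyc, hc⟩
      · exact Or.inr ⟨hg, hs, c, ⟨y, hy, hyc⟩, hc⟩
    calc (SX r r' (fun c => ∃ y ∈ x :: xs, Y y c)).ncard
        ≤ (SX r r' (Y x) ∪ SX r r' (fun c => ∃ y ∈ xs, Y y c)).ncard :=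
          Set.ncard_le_ncard hsub (Set.toFinite _)
      _ ≤ (SX r r' (Y x)).ncard + (SX r r' (fun c => ∃ y ∈ xs, Y y c)).ncard := Set.ncard_union_le _ _
      _ ≤ _ := by
          rw [List.map_cons, List.sum_cons]
          exact Nat.add_le_add_left (ncard_exists_le Y xs) _

theorem ncard_leaf_le (p : ℕ) : (SX r r' (ExtL [] p)).ncard ≤ 1 := by
  apply Set.ncard_le_one_iff_subsingleton.mpr
  rintro g ⟨_, _, c, hc1, hc⟩ g' ⟨_, _, c', hc1', hc'⟩
  have e1 : c = p := hc1
  have e2 : c' = p := hc1'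
  rw [e1] at hc
  rw [e2] at hc'
  exact isCode_inj hc hc'

theorem testI_sound (hR : IsCode R r) (hR' : IsCode R' r') (j : ℕ) (hj : j ≤ 24) (Ls : List (List ℕ))
    (hfix : ∀ L' ∈ Ls, ∀ x ∈ L', ∀ i < j, nthN x i = i) (p x : ℕ) {g : Equiv.Perm GolayPt}
    (hg : g ∈ SX r r' (ExtL Ls (compU p x))) (i : ℕ) : testI R R' j p x i = true := by
  obtain ⟨_, hs, c, hX, hcg⟩ := hg
  unfold testI
  by_cases hlt : i < j ∧ nthN R i < j
  · apply Bool.or_eq_true_iff.mpr
    right
    rw [beq_true_iff]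
    have h1 := semi_pointwise hR hR' hcg hs i (by omega)
    rw [extL_nthN j hj Ls _ c hfix hX _ hlt.2, extL_nthN j hj Ls _ c hfix hX i hlt.1,
      nthN_compU _ _ _ (by omega), nthN_compU _ _ _ (by omega)] at h1
    exact h1
  · apply Bool.or_eq_true_iff.mpr
    left
    rw [Bool.not_eq_true', ← Bool.not_eq_true, Bool.and_eq_true, Nat.blt_eq, Nat.blt_eq]
    exact hlt

theorem PSstep_sound (chk : ℕ → ℕ → Bool) (F : ℕ → ℕ) (L : List ℕ) (Ls : List (List ℕ))
    (hchk : ∀ p x, (SX r r' (ExtL Ls (compU p x))).Nonempty → chk p x = true)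
    (hF : ∀ q, (SX r r' (ExtL Ls q)).ncard ≤ F q) (p : ℕ) :
    (SX r r' (ExtL (L :: Ls) p)).ncard ≤ PSstep chk F L p := by
  unfold PSstep
  rw [ssum_eq, Nat.zero_add]
  have e : SX r r' (ExtL (L :: Ls) p) = SX r r' (fun c => ∃ x ∈ L, ExtL Ls (compU p x) c) := rfl
  rw [e]
  refine (ncard_exists_le (fun x c => ExtL Ls (compU p x) c) L).trans ?_
  apply List.sum_le_sum
  intro x _
  by_cases hc : chk p x = true
  · rw [hc, cond_true, forceNat_eq]
    exact hF _
  · have hempty : SX r r' (ExtL Ls (compU p x)) = ∅ := by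
      by_contra hne
      exact hc (hchk p x (Set.nonempty_iff_ne_empty.mpr hne))
    rw [hempty]
    simp

theorem chkQ_sound (hR : IsCode R r) (hR' : IsCode R' r') (RI j : ℕ) (hj : j ≤ 24) (Ls : List (List ℕ))
    (hfix : ∀ L' ∈ Ls, ∀ x ∈ L', ∀ i < j, nthN x i = i) (p x : ℕ)
    (h : (SX r r' (ExtL Ls (compU p x))).Nonempty) : chkQ R R' RI j p x = true := by
  obtain ⟨g, hg⟩ := h
  unfold chkQ
  rw [Bool.and_eq_true]
  exact ⟨testI_sound hR hR' j hj Ls hfix p x hg _, testI_sound hR hR' j hj Ls hfix p x hg _⟩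

theorem chkL_sound (hR : IsCode R r) (hR' : IsCode R' r') (p x : ℕ)
    (h : (SX r r' (ExtL [] (compU p x))).Nonempty) : chkL R R' p x = true := by
  obtain ⟨g, hg⟩ := h
  unfold chkL
  rw [List.all_eq_true]
  intro i _
  exact testI_sound hR hR' 24 (by norm_num) [] (by simp) p x hg i

theorem fix_l6 : ∀ L' ∈ [L7], ∀ x ∈ L', ∀ i < 6, nthN x i = i := by
  intro L' hL'
  rw [List.mem_singleton] at hL'
  rw [hL']
  exact L7_fix

theorem fix_l5 : ∀ L' ∈ [L6, L7], ∀ x ∈ L', ∀ i < 5, nthN x i = i := by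
  intro L' hL' x hx i hi
  rcases List.mem_cons.mp hL' with rfl | hL'
  · exact L6_fix x hx i hi
  · exact fix_l6 L' hL' x hx i (by omega)

theorem fix_l4 : ∀ L' ∈ [L5, L6, L7], ∀ x ∈ L', ∀ i < 4, nthN x i = i := by
  intro L' hL' x hx i hi
  rcases List.mem_cons.mp hL' with rfl | hL'
  · exact L5_fix x hx i hi
  · exact fix_l5 L' hL' x hx i (by omega)

theorem fix_l3 : ∀ L' ∈ [sndC, L5, L6, L7], ∀ x ∈ L', ∀ i < 3, nthN x i = i := by
  intro L' hL' x hx i hi
  rcases List.mem_cons.mp hL' with rfl | hL'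
  · exact sndC_fix x hx i hi
  · exact fix_l4 L' hL' x hx i (by omega)

theorem fix_l2 : ∀ L' ∈ [topC, sndC, L5, L6, L7], ∀ x ∈ L', ∀ i < 2, nthN x i = i := by
  intro L' hL' x hx i hi
  rcases List.mem_cons.mp hL' with rfl | hL'
  · exact topC_fix x hx i hi
  · exact fix_l3 L' hL' x hx i (by omega)

theorem fix_l1 : ∀ L' ∈ [LB, topC, sndC, L5, L6, L7], ∀ x ∈ L', ∀ i < 1, nthN x i = i := by
  intro L' hL' x hx i hi
  rcases List.mem_cons.mp hL' with rfl | hL'
  · exact LB_fix x hx i hi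
  · exact fix_l2 L' hL' x hx i (by omega)

/-- the pruned census bounds the number of solutions of `g * r = r' * g` in `M24` -/
theorem ncard_semi_le (hR : IsCode R r) (hR' : IsCode R' r') (RI : ℕ) :
    {g : Equiv.Perm GolayPt | g ∈ M24 ∧ g * r = r' * g}.ncard ≤ PS0 R R' RI := by
  have h7 : ∀ q, (SX r r' (ExtL [] q)).ncard ≤ (fun _ => 1) q := fun q => ncard_leaf_le q
  have h6 : ∀ q, (SX r r' (ExtL [L7] q)).ncard ≤ PS6 R R' q :=
    PSstep_sound _ _ L7 [] (chkL_sound hR hR') h7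
  have h5 : ∀ q, (SX r r' (ExtL [L6, L7] q)).ncard ≤ PS5 R R' RI q :=
    PSstep_sound _ _ L6 [L7] (chkQ_sound hR hR' RI 6 (by norm_num) _ fix_l6) h6
  have h4 : ∀ q, (SX r r' (ExtL [L5, L6, L7] q)).ncard ≤ PS4 R R' RI q :=
    PSstep_sound _ _ L5 [L6, L7] (chkQ_sound hR hR' RI 5 (by norm_num) _ fix_l5) h5
  have h3 : ∀ q, (SX r r' (ExtL [sndC, L5, L6, L7] q)).ncard ≤ PS3 R R' RI q :=
    PSstep_sound _ _ sndC [L5, L6, L7] (chkQ_sound hR hR' RI 4 (by norm_num) _ fix_l4) h4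
  have h2 : ∀ q, (SX r r' (ExtL [topC, sndC, L5, L6, L7] q)).ncard ≤ PS2 R R' RI q :=
    PSstep_sound _ _ topC [sndC, L5, L6, L7] (chkQ_sound hR hR' RI 3 (by norm_num) _ fix_l3) h3
  have h1 : ∀ q, (SX r r' (ExtL [LB, topC, sndC, L5, L6, L7] q)).ncard ≤ PS1 R R' RI q :=
    PSstep_sound _ _ LB [topC, sndC, L5, L6, L7] (chkQ_sound hR hR' RI 2 (by norm_num) _ fix_l2) h2
  have h := PSstep_sound _ _ LA [LB, topC, sndC, L5, L6, L7]
    (chkQ_sound hR hR' RI 1 (by norm_num) _ fix_l1) h1 idc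
  rw [PS0_eq]
  refine le_trans (Set.ncard_le_ncard ?_ (Set.toFinite _)) h
  rintro g ⟨hg, hs⟩
  obtain ⟨a, ha, b, hb, t, ht, u, hu, f, hf, s, hs', w, hw, hc⟩ := sift24 g hg
  exact ⟨hg, hs, _, ⟨a, ha, b, hb, t, ht, u, hu, f, hf, s, hs', w, hw, rfl⟩, hc⟩

/-- the same bound for the subtype -/
theorem card_semi_le (r r' : M24) (hR : IsCode R r.1) (hR' : IsCode R' r'.1) (RI : ℕ) :
    Nat.card {g : M24 // g * r = r' * g} ≤ PS0 R R' RI := by
  refine le_trans ?_ (ncard_semi_le hR hR' RI)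
  rw [← Nat.card_coe_set_eq]
  apply Nat.card_le_card_of_injective
    (fun g : {g : M24 // g * r = r' * g} =>
      (⟨g.1.1, g.1.2, by
        have := congrArg Subtype.val g.2
        exact this⟩ : {g : Equiv.Perm GolayPt | g ∈ M24 ∧ g * r.1 = r'.1 * g}))
  intro g g' h
  apply Subtype.ext
  apply Subtype.ext
  have h2 := congrArg Subtype.val h
  exact h2

end

end Cfsg.Agent.Helper27.M24B
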